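import Groth.Agent.ProperBC21.FiniteSys
import Groth.Agent.Lib.SymEmbed24.Basic
import Groth.Agent.Lib.ModDesc.Basic
import Groth.Agent.S8267
import Groth.Agent.S8270

/-!
# Algebraization of finite schemes over the formal completion
-/

set_option autoImplicit false
set_option linter.style.haveILetI false
set_option linter.unusedSectionVars false
set_option backward.isDefEq.respectTransparency false

universe u

open CategoryTheory CategoryTheory.Limits AlgebraicGeometry TopologicalSpace Opposite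

noncomputable section

namespace Groth.Agent.ProperBC21

open GrothLib.FormalExist7

theorem isClosedImmersion_of_algHom {S : Scheme.{u}} (V : RelSpec.QCAlg S) {T : Scheme.{u}} (g : T ⟶ S)
    [IsAffineHom g] [QuasiCompact g] [QuasiSeparated g] (ψ : V ⟶ RelSpec.QCAlg.directImage g)
    (h : T ⟶ V.spec) (w : h ≫ V.π = g)
    (e : AffAlg.algHom V.π g h w = V.gammaMap ≫ ψ.hom)
    (hψ : ∀ U : S.Opens, IsAffineOpen U → Function.Surjective (ψ.hom.app (op U)).hom) :
    IsClosedImmersion h := by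
  refine (IsZariskiLocalAtTarget.iff_of_iSup_eq_top (P := @IsClosedImmersion)
    (fun U : S.affineOpens => V.π ⁻¹ᵁ U.1) ?_).mpr fun U => ?_
  · rw [← Scheme.Hom.preimage_iSup, iSup_affineOpens_eq_top, Scheme.Hom.preimage_top]
  · have hpre : h ⁻¹ᵁ V.π ⁻¹ᵁ U.1 = g ⁻¹ᵁ U.1 := congrArg (fun k => k ⁻¹ᵁ U.1) w
    have : IsAffine (V.π ⁻¹ᵁ U.1).toScheme := U.2.preimage V.π
    have : IsAffine (h ⁻¹ᵁ V.π ⁻¹ᵁ U.1).toScheme := by rw [hpre]; exact U.2.preimage g
    have hi : Function.Surjective ((AffAlg.algHom V.π g h w).app (op U.1)).hom := by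
      rw [e]
      have := RLpsi8.isIso_gammaMap V
      exact (hψ U.1 U.2).comp (ConcreteCategory.bijective_of_isIso (V.gammaMap.app (op U.1))).2
    rw [GrothLib.AffAlg8.algHom_app] at hi
    refine IsClosedImmersion.of_surjective_of_isAffine _ ?_
    have h2 : Function.Surjective (h.app (V.π ⁻¹ᵁ U.1)) := by
      intro r
      have hm : IsIso (homOfLE hpre.ge) := ⟨homOfLE hpre.le, Subsingleton.elim _ _, Subsingleton.elim _ _⟩
      obtain ⟨s, hs⟩ := hi (T.presheaf.map (homOfLE hpre.ge).op r)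
      exact ⟨s, (ConcreteCategory.bijective_of_isIso (T.presheaf.map (homOfLE hpre.ge).op)).1 hs⟩
    rw [Scheme.Hom.appTop, morphismRestrict_app]
    have h3 : Function.Surjective (h.app ((V.π ⁻¹ᵁ U.1).ι ''ᵁ ⊤)) := by
      rw [Scheme.Opens.ι_image_top]
      exact h2
    exact (ConcreteCategory.bijective_of_isIso (T.presheaf.map (eqToHom _).op)).2.comp h3

theorem surjective_app_of_epi {S : Scheme.{u}} {E : S.Modules} [E.IsQuasicoherent] {V B : RelSpec.QCAlg S}
    (j : E ⟶ V.toModule) (ψ : V ⟶ B) (φ : E ⟶ B.toModule) [Epi φ]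
    (h : j ≫ RelSpec.QCAlg.Hom.toModuleMap ψ = φ) {U : S.Opens} (hU : IsAffineOpen U) :
    Function.Surjective (ψ.hom.app (op U)).hom := by
  intro b
  haveI := GrothLib.QCAlgFT9.isQuasicoherent_toModule B
  obtain ⟨m, hm⟩ := GrothLib.ModDesc.app_surjective_of_epi φ hU b
  refine ⟨j.app U m, Eq.trans ?_ hm⟩
  exact congrArg (fun k : E ⟶ B.toModule => k.app U m) h

theorem proj_compat {A : Type u} [CommRing A] {X : Scheme.{u}} [X.Over (Spec (CommRingCat.of A))]
    (I : Ideal A) {M : X.Modules} {G : ℕᵒᵖ ⥤ X.Modules} (ζ : Formal.completion I M ≅ G) (n : ℕ) :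
    (Formal.modPowπ I (n + 1 + 1) M ≫ ζ.hom.app (op (n + 1))) ≫ G.map (homOfLE (Nat.le_succ n)).op =
      Formal.modPowπ I (n + 1) M ≫ ζ.hom.app (op n) := by
  rw [Category.assoc, ← ζ.hom.naturality]
  exact (Category.assoc _ _ _).symm.trans
    (congrArg (· ≫ ζ.hom.app (op n)) (GrothLib.FormalSys.completion_map_succ M n))

theorem epi_proj {A : Type u} [CommRing A] {X : Scheme.{u}} [X.Over (Spec (CommRingCat.of A))]
    (I : Ideal A) {M : X.Modules} {G : ℕᵒᵖ ⥤ X.Modules} (ζ : Formal.completion I M ≅ G) (n : ℕ) :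
    Epi (Formal.modPowπ I (n + 1) M ≫ ζ.hom.app (op n)) := by
  haveI := (GrothLib.FormalSys.IsQuot.modPowπ I (n + 1) M).epi
  exact epi_comp _ _

theorem exists_proj {A : Type u} [CommRing A] {X : Scheme.{u}} [X.Over (Spec (CommRingCat.of A))]
    (I : Ideal A) {M : X.Modules} (N : ℕ → X.Modules) (τ : ∀ n, N (n + 1) ⟶ N n)
    (ζ : Formal.completion I M ≅ Functor.ofOpSequence (X := N) τ) :
    ∃ φ : ∀ n, M ⟶ N n, (∀ n, Epi (φ n)) ∧ ∀ n, φ (n + 1) ≫ τ n = φ n := by
  refine ⟨fun n => Formal.modPowπ I (n + 1) M ≫ ζ.hom.app (op n), fun n => epi_proj I ζ n, fun n => ?_⟩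
  have h := proj_compat I ζ n
  rw [Functor.ofOpSequence_map_homOfLE_succ (X := N) τ n] at h
  exact h

theorem isCohFormal_ofOpSequence {A : Type u} [CommRing A] {X : Scheme.{u}}
    [X.Over (Spec (CommRingCat.of A))] {I : Ideal A} (N : ℕ → X.Modules) (τ : ∀ n, N (n + 1) ⟶ N n)
    (h1 : ∀ n, Coh.IsCoh (N n)) (h2 : ∀ n, Formal.KilledBy (I ^ (n + 1)) (N n))
    (h3 : ∀ n, GrothLib.FormalSys.IsQuot (I ^ (n + 1)) (τ n)) :
    Formal.IsCohFormal I (Functor.ofOpSequence (X := N) τ) := by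
  refine ⟨h1, h2, fun n => ?_⟩
  rw [Functor.ofOpSequence_map_homOfLE_succ (X := N) τ n]
  exact h3 n

theorem comp_eq_of_unique {S : Scheme.{u}} {E : S.Modules} {V : RelSpec.QCAlg S} (B B' : RelSpec.QCAlg S)
    (j : E ⟶ V.toModule) (ψ : V ⟶ B) (ψ' : V ⟶ B') (τ : B' ⟶ B) (φ : E ⟶ B.toModule) (φ' : E ⟶ B'.toModule)
    (h' : j ≫ RelSpec.QCAlg.Hom.toModuleMap ψ' = φ')
    (hu : ∀ χ : V ⟶ B, j ≫ RelSpec.QCAlg.Hom.toModuleMap χ = φ → χ = ψ)
    (hc : φ' ≫ RelSpec.QCAlg.Hom.toModuleMap τ = φ) : ψ' ≫ τ = ψ := by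
  refine hu _ ?_
  rw [toModuleMap_comp, ← Category.assoc, h']
  exact hc

theorem algHom_compat {S T T' : Scheme.{u}} (V : RelSpec.QCAlg S) (g : T ⟶ S) (g' : T' ⟶ S)
    [IsAffineHom g] [QuasiCompact g] [QuasiSeparated g] [IsAffineHom g'] [QuasiCompact g'] [QuasiSeparated g']
    (x : T ⟶ T') (v : x ≫ g' = g)
    (τ : RelSpec.QCAlg.directImage g' ⟶ RelSpec.QCAlg.directImage g) (hτ : τ.hom = AffAlg.algHom g' g x v)
    (ψ : V ⟶ RelSpec.QCAlg.directImage g) (ψ' : V ⟶ RelSpec.QCAlg.directImage g') (hc : ψ' ≫ τ = ψ)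
    (h : T ⟶ V.spec) (h' : T' ⟶ V.spec) (w : h ≫ V.π = g) (w' : h' ≫ V.π = g')
    (e : AffAlg.algHom V.π g h w = V.gammaMap ≫ ψ.hom)
    (e' : AffAlg.algHom V.π g' h' w' = V.gammaMap ≫ ψ'.hom) : x ≫ h' = h := by
  refine GrothLib.AffAlg8.hom_ext V.π g (by rw [Category.assoc, w', v]) w ?_
  rw [RLpsi8.algHom_comp V.π g' g h' w' x v, e, e', ← hτ, ← hc, Category.assoc]
  rfl

variable {A : Type u} [CommRing A] {X : Scheme.{u}} (f : X ⟶ Spec (CommRingCat.of A)) (I : Ideal A)
  (Y : ℕ → Scheme.{u}) (y : (n : ℕ) → (Y n ⟶ CohB1.thick f I n)) (t : (n : ℕ) → (Y n ⟶ Y (n + 1)))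

/-- The symmetric algebra of the algebraized module of a formal system of finite algebras, with its maps. -/
theorem exists_symAlg_system [IsNoetherianRing A] [X.Over (Spec (CommRingCat.of A))]
    [IsSeparated (X ↘ Spec (CommRingCat.of A))] [LocallyOfFiniteType (X ↘ Spec (CommRingCat.of A))]
    [QuasiCompact (X ↘ Spec (CommRingCat.of A))] [IsAdicComplete I A]
    (B : ℕ → RelSpec.QCAlg X) (τ : ∀ n, B (n + 1) ⟶ B n)
    (h1 : ∀ n, Coh.IsCoh (B n).toModule) (h2 : ∀ n, Formal.KilledBy (I ^ (n + 1)) (B n).toModule)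
    (h3 : ∀ n, GrothLib.FormalSys.IsQuot (I ^ (n + 1)) (RelSpec.QCAlg.Hom.toModuleMap (τ n)))
    (hs : ProperSupp A (B 0).toModule) :
    ∃ (V : RelSpec.QCAlg X) (ψ : ∀ n, V ⟶ B n), LocallyOfFiniteType V.π ∧
      (∀ n, ψ (n + 1) ≫ τ n = ψ n) ∧
      ∀ n (U : X.Opens), IsAffineOpen U → Function.Surjective ((ψ n).hom.app (op U)).hom := by
  let G : ℕᵒᵖ ⥤ X.Modules :=
    Functor.ofOpSequence (X := fun n => (B n).toModule) (fun n => RelSpec.QCAlg.Hom.toModuleMap (τ n))
  have hG : Formal.IsCohFormal I G :=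
    isCohFormal_ofOpSequence (fun n => (B n).toModule) (fun n => RelSpec.QCAlg.Hom.toModuleMap (τ n)) h1 h2 h3
  obtain ⟨M, hM, -, ⟨ζ⟩⟩ := existence_properSupport I inferInstance G hG hs
  obtain ⟨φ, hφe, hφc⟩ :=
    exists_proj I (fun n => (B n).toModule) (fun n => RelSpec.QCAlg.Hom.toModuleMap (τ n)) ζ
  obtain ⟨V, j, hV⟩ := Groth.Agent.S8270.result M hM.1
  choose ψ hψ hψu using fun n => hV (B n) (φ n)
  refine ⟨V, ψ, Groth.Agent.S8267.result M hM V j hV, fun n => ?_, fun n U hU => ?_⟩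
  · exact comp_eq_of_unique (B n) (B (n + 1)) j (ψ n) (ψ (n + 1)) (τ n) (φ n) (φ (n + 1))
      (hψ (n + 1)) (hψu n) (hφc n)
  · haveI := hM.1
    haveI : Epi (φ n) := hφe n
    exact surjective_app_of_epi j (ψ n) (φ n) (hψ n) hU

/-- Algebraization of a compatible system of finite schemes over the thickenings. -/
theorem exists_finite_algebraization [IsNoetherianRing A] [IsAdicComplete I A] [IsSeparated f]
    [LocallyOfFiniteType f] [QuasiCompact f] (hy : ∀ n, IsFinite (y n))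
    (ht : ∀ n, IsPullback (t n) (y n) (y (n + 1)) (CohB1.thickTrans f I n))
    (hp : IsProper (y 0 ≫ CohB1.thickToBase f I 0)) :
    ∃ (W : Scheme.{u}) (i : W ⟶ X) (w : (n : ℕ) → (Y n ⟶ W)), IsFinite i ∧
      IsProper (i ≫ f) ∧ (∀ n, w n = t n ≫ w (n + 1)) ∧
      ∀ n, IsPullback (w n) (y n) i (CohB1.thickι f I n) := by
  letI : X.Over (Spec (CommRingCat.of A)) := ⟨f⟩
  haveI : IsSeparated (X ↘ Spec (CommRingCat.of A)) := ‹IsSeparated f›
  haveI : LocallyOfFiniteType (X ↘ Spec (CommRingCat.of A)) := ‹LocallyOfFiniteType f›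
  haveI : QuasiCompact (X ↘ Spec (CommRingCat.of A)) := ‹QuasiCompact f›
  haveI : IsLocallyNoetherian X := LocallyOfFiniteType.isLocallyNoetherian f
  haveI := isFinite_toX f I Y y hy
  have hGs : ProperSupp A (RelSpec.QCAlg.directImage (toX f I Y y 0)).toModule := by
    haveI : IsProper (toX f I Y y 0 ≫ f) := by
      rw [toX_comp]
      haveI := hp
      haveI := isClosedImmersion_specQuot I 0
      infer_instance
    have hu : ClSub.IsProperOver (toX f I Y y 0 ≫ f) (Set.univ : Set (Y 0)) := by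
      haveI : IsProper (𝟙 (Y 0) ≫ toX f I Y y 0 ≫ f) := by rw [Category.id_comp]; infer_instance
      refine GrothLib.ProperOver.isProperOver_of_closedImmersion _ (𝟙 (Y 0)) isClosed_univ ?_
      simp
    have him := GrothLib.ProperOver.isProperOver_image (toX f I Y y 0 ≫ f) f (toX f I Y y 0) rfl hu
      (fun _ => inferInstance)
    rw [Set.image_univ] at him
    exact GrothLib.ProperOver.IsProperOver.subset _ him
      (GrothLib.QCoh.isClosed_support_of_isCoh (isCoh_toModule_directImage _)) (support_toModule_directImage _)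
  obtain ⟨V, ψ, hVlft, hψc, hψs⟩ := exists_symAlg_system I
    (fun n => RelSpec.QCAlg.directImage (toX f I Y y n)) (fun n => tr f I Y y t hy n ht)
    (fun n => isCoh_toModule_directImage _) (fun n => killedBy_directImage f I Y y t hy ht n)
    (fun n => isQuot_trans f I Y y t hy ht n) hGs
  haveI := hVlft
  choose h wh eh using fun n => GrothLib.AffAlg8.exists_hom V.π (toX f I Y y n) (V.gammaMap ≫ (ψ n).hom)
    (by rw [← Category.assoc, RelSpec.QCAlg.π_c_gammaMap]; exact (ψ n).comm)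
  have hc : ∀ n, t n ≫ h (n + 1) = h n := fun n =>
    algHom_compat V (toX f I Y y n) (toX f I Y y (n + 1)) (t n) (t_toX f I Y y t ht n)
      (tr f I Y y t hy n ht) rfl (ψ n) (ψ (n + 1)) (hψc n) (h n) (h (n + 1)) (wh n) (wh (n + 1)) (eh n) (eh (n + 1))
  -- closed subschemes of the thickenings of the vector bundle
  let f' : V.spec ⟶ Spec (CommRingCat.of A) := V.π ≫ f
  let z : ∀ n, Y n ⟶ CohB1.thick f' I n := fun n =>
    pullback.lift (h n) (toBase f I Y y n) (by
      rw [← Category.assoc, wh]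
      exact toX_comp f I Y y n)
  have hzι : ∀ n, z n ≫ CohB1.thickι f' I n = h n := fun n => pullback.lift_fst _ _ _
  have hzb : ∀ n, z n ≫ CohB1.thickToBase f' I n = toBase f I Y y n := fun n => pullback.lift_snd _ _ _
  have hz : ∀ n, IsClosedImmersion (z n) := fun n => by
    haveI : IsClosedImmersion (z n ≫ CohB1.thickι f' I n) := by
      rw [hzι]
      exact isClosedImmersion_of_algHom V _ (ψ n) (h n) (wh n) (eh n) (hψs n)
    haveI := isClosedImmersion_thickι f' I n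
    exact IsClosedImmersion.of_comp (z n) (CohB1.thickι f' I n)
  have htz : ∀ n, IsPullback (t n) (z n) (z (n + 1)) (CohB1.thickTrans f' I n) := fun n => by
    refine IsPullback.of_bot ?_ ?_ (isPullback_thickTrans f' I n)
    · rw [hzb, ← Category.assoc, hzι, ← Category.assoc, wh]
      exact isPullback_t f I Y y t ht n
    · haveI := mono_thickι f' I (n + 1)
      rw [← cancel_mono (CohB1.thickι f' I (n + 1)), Category.assoc, Category.assoc, hzι, thickTrans_thickι,
        hzι, hc]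
  obtain ⟨W, i, w, hi, hiw, hwc, hwp⟩ := exists_closed_algebraization f' I z t hz htz
    (by rw [hzb]; exact hp)
  have hif : (i ≫ V.π) ≫ f = i ≫ f' := Category.assoc _ _ _
  refine ⟨W, i ≫ V.π, w, ?_, by rw [hif]; exact hiw, hwc, fun n => ?_⟩
  · haveI := hi
    haveI : IsProper ((i ≫ V.π) ≫ f) := by rw [hif]; exact hiw
    exact (IsFinite.iff_isProper_and_isAffineHom).2 ⟨IsProper.of_comp (i ≫ V.π) f, inferInstance⟩
  · refine IsPullback.of_bot ?_ ?_ (IsPullback.of_hasPullback f (CohB1.specQuot I n))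
    · rw [hif, show y n ≫ pullback.snd f (CohB1.specQuot I n) = z n ≫ CohB1.thickToBase f' I n from (hzb n).symm]
      exact (hwp n).paste_vert (IsPullback.of_hasPullback f' (CohB1.specQuot I n))
    · rw [← Category.assoc, (hwp n).w, hzι, wh]

end Groth.Agent.ProperBC21
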