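import Groth.Agent.ProperBC21.Algebraize
import Groth.Agent.Lib.InfNbhd6.Main
import Groth.Agent.Lib.FEt21.Thick
import Groth.Agent.Lib.FormalFun.LevelsFree
import Groth.Agent.Lib.FSchSys.Completion
import Groth.Agent.Lib.LocProp.Stalk

/-!
# Covers of the closed fibre of a proper scheme over a complete Noetherian ring extend
-/

set_option autoImplicit false
set_option linter.style.haveILetI false
set_option linter.unusedSectionVars false
set_option backward.isDefEq.respectTransparency false

universe u

open CategoryTheory CategoryTheory.Limits AlgebraicGeometry TopologicalSpace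

noncomputable section

namespace Groth.Agent.ProperBC21

open GrothLib.FormalExist7

theorem etale_pullback_snd_ker {X S T P : Scheme.{u}} {f : X ⟶ S} {s : T ⟶ S} [IsClosedImmersion s]
    {a : P ⟶ X} {b : P ⟶ T} (h : IsPullback a b f s) [Etale b] : Etale (pullback.snd f s.ker.subschemeι) := by
  haveI : IsIso s.toImage := inferInstance
  have h' : IsPullback a (b ≫ s.toImage) f s.imageι :=
    h.of_iso (Iso.refl _) (Iso.refl _) (asIso s.toImage) (Iso.refl _) (by simp) (by simp) (by simp) (by simp)
  haveI : Etale (b ≫ s.toImage) := inferInstance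
  rw [show pullback.snd f s.ker.subschemeι = h'.isoPullback.inv ≫ b ≫ s.toImage from
    (h'.isoPullback_inv_snd).symm]
  infer_instance

variable {A : Type u} [CommRing A] (I : Ideal A) {X : Scheme.{u}} (f : X ⟶ Spec (CommRingCat.of A))

theorem ker_thickι_pow (n : ℕ) :
    (CohB1.thickι f I n).ker = ((FSch.idealSpec A I).comap f) ^ (n + 1) := by
  rw [ker_thickι, ← GrothLib.FSchSys.comap_pow]
  congr 1
  exact GrothLib.FSchSys.ker_spec_quot_pow I (n + 1)

/-- A scheme proper over a complete ring that is etale at all levels is etale. -/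
theorem etale_of_levels [IsNoetherianRing A] [IsAdicComplete I A] [IsLocallyNoetherian X] {W : Scheme.{u}}
    (i : W ⟶ X) [LocallyOfFiniteType i] [IsProper (i ≫ f)]
    (h : ∀ n, ∃ (P : Scheme.{u}) (a : P ⟶ W) (b : P ⟶ CohB1.thick f I n),
      IsPullback a b i (CohB1.thickι f I n) ∧ Etale b) :
    Etale i := by
  haveI : LocallyOfFinitePresentation i :=
    GrothLib.LocProp.locallyOfFinitePresentation_of_isLocallyNoetherian i
  let K := (FSch.idealSpec A I).comap f
  have hlvl : ∀ n : ℕ, Etale (pullback.snd i (K ^ (n + 1)).subschemeι) := fun n => by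
    obtain ⟨P, a, b, hP, hb⟩ := h n
    haveI := isClosedImmersion_thickι f I n
    haveI := hb
    have := etale_pullback_snd_ker hP
    rwa [ker_thickι_pow I f n] at this
  let T := {U : W.Opens // Etale (U.ι ≫ i)}
  have hcov : (⨆ U : T, U.1) = ⊤ := by
    by_contra hne
    let Z : Set W := ((⨆ U : T, U.1 : W.Opens) : Set W)ᶜ
    have hZ : IsClosed Z := (⨆ U : T, U.1 : W.Opens).2.isClosed_compl
    have hZn : Z.Nonempty := by
      rw [Set.nonempty_iff_ne_empty]
      intro h0
      exact hne (TopologicalSpace.Opens.coe_inj.1 (compl_inj_iff.1 (h0.trans Set.compl_univ.symm)))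
    haveI : CompactSpace W := QuasiCompact.compactSpace_of_compactSpace (i ≫ f)
    obtain ⟨w, hwZ, hw⟩ := hZ.exists_closed_singleton hZn
    have hw' := GrothLib.FormalFun.mem_support_idealSpec_comap I (i ≫ f) hw
    have hwK : i w ∈ K.support := by
      rw [Scheme.IdealSheafData.support_comap] at hw'
      show i w ∈ ((FSch.idealSpec A I).comap f).support
      rw [Scheme.IdealSheafData.support_comap]
      exact hw'
    obtain ⟨U, hwU, hU⟩ := GrothLib.InfNbhd6.exists_etale_nhd i K hlvl w hwK
    exact hwZ ((le_iSup (fun U : T => U.1) ⟨U, hU⟩) hwU)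
  exact IsZariskiLocalAtSource.of_openCover (P := @Etale)
    (W.openCoverOfIsOpenCover (fun U : T => U.1) hcov) fun U => U.2

/-- The closed fibre inside the `n`-th thickening. -/
def toThick (n : ℕ) :
    pullback f (Spec.map (CommRingCat.ofHom (Ideal.Quotient.mk I))) ⟶ CohB1.thick f I n :=
  pullback.map f (Spec.map (CommRingCat.ofHom (Ideal.Quotient.mk I))) f (CohB1.specQuot I n) (𝟙 X)
    (Spec.map (CommRingCat.ofHom (Ideal.Quotient.factor (Ideal.pow_le_self (Nat.succ_ne_zero n))))) (𝟙 _)
    (by simp) (by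
      rw [Category.comp_id]
      show _ = _ ≫ Spec.map _
      rw [← Spec.map_comp]
      rfl)

theorem toThick_thickι (n : ℕ) :
    toThick I f n ≫ CohB1.thickι f I n =
      pullback.fst f (Spec.map (CommRingCat.ofHom (Ideal.Quotient.mk I))) :=
  (pullback.lift_fst _ _ _).trans (Category.comp_id _)

theorem toThick_trans (n : ℕ) : toThick I f n ≫ CohB1.thickTrans f I n = toThick I f (n + 1) := by
  haveI := mono_thickι f I (n + 1)
  rw [← cancel_mono (CohB1.thickι f I (n + 1)), Category.assoc, thickTrans_thickι, toThick_thickι,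
    toThick_thickι]

theorem isClosedImmersion_toThick (n : ℕ) : IsClosedImmersion (toThick I f n) := by
  haveI : IsClosedImmersion (Spec.map (CommRingCat.ofHom (Ideal.Quotient.mk I))) :=
    IsClosedImmersion.spec_of_surjective _ Ideal.Quotient.mk_surjective
  haveI : IsClosedImmersion (toThick I f n ≫ CohB1.thickι f I n) := by
    rw [toThick_thickι]; infer_instance
  haveI := isClosedImmersion_thickι f I n
  exact IsClosedImmersion.of_comp (toThick I f n) (CohB1.thickι f I n)

theorem surjective_toThick (n : ℕ) : Surjective (toThick I f n) := by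
  refine ⟨fun x => ?_⟩
  have hx : CohB1.thickι f I n x ∈
      Set.range (pullback.fst f (Spec.map (CommRingCat.ofHom (Ideal.Quotient.mk I)))) := by
    have h : CohB1.thickι f I n x ∈ f ⁻¹' Set.range (CohB1.specQuot I n) :=
      (Scheme.Pullback.range_fst f (CohB1.specQuot I n)).le ⟨x, rfl⟩
    rw [Scheme.Pullback.range_fst]
    refine Set.mem_of_mem_of_subset h (Set.preimage_mono (le_of_eq ?_))
    show Set.range (PrimeSpectrum.comap (Ideal.Quotient.mk (I ^ (n + 1)))) =
      Set.range (PrimeSpectrum.comap (Ideal.Quotient.mk I))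
    rw [range_comap_of_surjective _ _ Ideal.Quotient.mk_surjective,
      range_comap_of_surjective _ _ Ideal.Quotient.mk_surjective, Ideal.mk_ker, Ideal.mk_ker,
      PrimeSpectrum.zeroLocus_pow I (Nat.succ_ne_zero n)]
  obtain ⟨z, hz⟩ := hx
  haveI := isClosedImmersion_thickι f I n
  refine ⟨z, (CohB1.thickι f I n).isClosedEmbedding.injective ?_⟩
  rw [← Scheme.Hom.comp_apply, toThick_thickι, hz]

/-- Every finite etale cover of the closed fibre extends. -/
theorem essSurj_restrict_of_complete [IsNoetherianRing A] [IsAdicComplete I A] [IsProper f] :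
    (FEt.restrict (pullback.fst f (Spec.map (CommRingCat.ofHom (Ideal.Quotient.mk I))))).EssSurj := by
  refine ⟨fun U₀ => ?_⟩
  haveI : IsLocallyNoetherian X := LocallyOfFiniteType.isLocallyNoetherian f
  haveI hcl : ∀ n, IsClosedImmersion (toThick I f n) := isClosedImmersion_toThick I f
  haveI hsu : ∀ n, Surjective (toThick I f n) := surjective_toThick I f
  haveI : ∀ n, (FEt.restrict (toThick I f n)).IsEquivalence := fun n =>
    GrothLib.FEt21.isEquivalence_of_thickening (toThick I f n)
  let U : ∀ n, FEt.Cat (CohB1.thick f I n) := fun n => (FEt.restrict (toThick I f n)).objPreimage U₀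
  let η : ∀ n, (FEt.restrict (toThick I f n)).obj (U n) ≅ U₀ := fun n =>
    (FEt.restrict (toThick I f n)).objObjPreimageIso U₀
  let e : ∀ n, U n ≅ (FEt.restrict (CohB1.thickTrans f I n)).obj (U (n + 1)) := fun n =>
    (FEt.restrict (toThick I f n)).preimageIso (η n ≪≫ (η (n + 1)).symm ≪≫
      ((MorphismProperty.Over.pullbackCongr (P := FEt.prop) (Q := ⊤) (toThick_trans I f n).symm).app (U (n + 1))) ≪≫
      (MorphismProperty.Over.pullbackComp (P := FEt.prop) (Q := ⊤) (toThick I f n) (CohB1.thickTrans f I n)).app (U (n + 1)))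
  let Y : ℕ → Scheme.{u} := fun n => (U n).left
  let y : ∀ n, Y n ⟶ CohB1.thick f I n := fun n => (U n).hom
  let t : ∀ n, Y n ⟶ Y (n + 1) := fun n =>
    (e n).hom.left ≫ pullback.fst (U (n + 1)).hom (CohB1.thickTrans f I n)
  have hy : ∀ n, IsFinite (y n) := fun n => (U n).prop.1
  have ht : ∀ n, IsPullback (t n) (y n) (y (n + 1)) (CohB1.thickTrans f I n) := fun n => by
    haveI : IsIso (e n).hom.left := inferInstance
    refine (IsPullback.of_hasPullback (U (n + 1)).hom (CohB1.thickTrans f I n)).of_iso
      (asIso (e n).hom.left).symm (Iso.refl _) (Iso.refl _) (Iso.refl _) ?_ ?_ ?_ ?_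
    · simp [t]
    · have h := MorphismProperty.Over.w (e n).hom
      simp only [asIso_inv, Iso.symm_hom, Iso.refl_hom, Category.comp_id]
      rw [eq_comm, IsIso.inv_comp_eq]
      exact h.symm
    · simp [y]
    · simp
  have hp : IsProper (y 0 ≫ CohB1.thickToBase f I 0) := by
    haveI := hy 0
    haveI : IsProper (CohB1.thickToBase f I 0) := inferInstanceAs (IsProper (pullback.snd f _))
    infer_instance
  obtain ⟨W, i, w, hi, hiW, -, hwP⟩ := exists_finite_algebraization f I Y y t hy ht hp
  haveI := hi
  haveI := hiW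
  haveI : Etale i := etale_of_levels I f i fun n => ⟨Y n, w n, y n, hwP n, (U n).prop.2⟩
  let Wc : FEt.Cat X := MorphismProperty.Over.mk ⊤ i (GrothLib.FEt21.prop_of i)
  let ω : U 0 ≅ (FEt.restrict (CohB1.thickι f I 0)).obj Wc :=
    MorphismProperty.Over.isoMk (hwP 0).isoPullback (hwP 0).isoPullback_hom_snd
  exact ⟨Wc, ⟨(MorphismProperty.Over.pullbackCongr (P := FEt.prop) (Q := ⊤) (toThick_thickι I f 0).symm).app Wc ≪≫
    (MorphismProperty.Over.pullbackComp (P := FEt.prop) (Q := ⊤) (toThick I f 0) (CohB1.thickι f I 0)).app Wc ≪≫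
    (FEt.restrict (toThick I f 0)).mapIso ω.symm ≪≫ η 0⟩⟩

end Groth.Agent.ProperBC21
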