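import Groth.Agent.ProperBC21.Pull
import Groth.Agent.ProperBC21.SubAlg
import Groth.Agent.ProperBC21.Complete
import Groth.Agent.Lib.AdicExtra.Completion
import Groth.Agent.Lib.Smoothing.Approx.Basic
import Groth.Agent.Lib.Smoothing.Approx.GRing
import Groth.Agent.Lib.Hensel.PairHull
import Groth.Agent.Lib.Hensel.Noetherian
import Groth.Agent.Lib.GRingFT.EtaleStages
import Groth.Agent.S9276

/-!
# Covers of the closed fibre of a proper scheme over a henselian pair extend
-/

set_option autoImplicit false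
set_option linter.style.haveILetI false
set_option linter.unusedSectionVars false
set_option backward.isDefEq.respectTransparency false

universe u

open CategoryTheory CategoryTheory.Limits AlgebraicGeometry

noncomputable section

namespace Groth.Agent.ProperBC21

variable {R₀ : Type u} [CommRing R₀] {Q : Scheme.{u}} (q : Q ⟶ Spec (CommRingCat.of R₀)) [IsProper q]

/-- The complete case, for the base changes of `q`. -/
theorem exists_extension_complete {B : Type u} [CommRing B] [IsNoetherianRing B] (K : Ideal B)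
    [IsAdicComplete K B] (φ : R₀ →+* B) {χ : R₀ →+* B ⧸ K} (h : (Ideal.Quotient.mk K).comp φ = χ)
    (V : FEt.Cat (bc q χ)) : ∃ W : FEt.Cat (bc q φ), Restr q (Ideal.Quotient.mk K) h W V := by
  let f := pullback.snd q (Spec.map (CommRingCat.ofHom φ))
  haveI : IsProper f := MorphismProperty.pullback_snd _ _ inferInstance
  haveI := essSurj_restrict_of_complete K f
  let cl := pullback.fst f (Spec.map (CommRingCat.ofHom (Ideal.Quotient.mk K)))
  let ε : bc q χ ⟶ pullback f (Spec.map (CommRingCat.ofHom (Ideal.Quotient.mk K))) :=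
    pullback.lift (bcMap q (Ideal.Quotient.mk K) h) (pullback.snd _ _) (bcMap_snd q _ h)
  let ε' : pullback f (Spec.map (CommRingCat.ofHom (Ideal.Quotient.mk K))) ⟶ bc q χ :=
    pullback.lift (pullback.fst _ _ ≫ pullback.fst _ _) (pullback.snd _ _) (by
      rw [Category.assoc, pullback.condition, pullback.condition_assoc, ← Spec.map_comp,
        ← CommRingCat.ofHom_comp, h])
  have h1 : ε' ≫ ε = 𝟙 _ := by
    apply pullback.hom_ext
    · apply pullback.hom_ext
      · simp [ε, ε']
      · simp [ε, ε', f, pullback.condition]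
    · simp [ε, ε']
  have h2 : ε ≫ cl = bcMap q (Ideal.Quotient.mk K) h := pullback.lift_fst _ _ _
  let V₀ := (FEt.restrict ε').obj V
  obtain ⟨W, ⟨e⟩⟩ := (inferInstance : (FEt.restrict cl).EssSurj).mem_essImage V₀
  refine ⟨W, ⟨(MorphismProperty.Over.pullbackCongr (P := FEt.prop) (Q := ⊤) h2.symm).app W ≪≫
    (MorphismProperty.Over.pullbackComp (P := FEt.prop) (Q := ⊤) ε cl).app W ≪≫
    (FEt.restrict ε).mapIso e ≪≫
    ((MorphismProperty.Over.pullbackComp (P := FEt.prop) (Q := ⊤) ε ε').app V).symm ≪≫ ?_⟩⟩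
  have h3 : ε ≫ ε' = 𝟙 _ := by
    apply pullback.hom_ext <;> simp [ε, ε']
  have h4 : bcMap q (RingHom.id (B ⧸ K)) (RingHom.id_comp χ) = 𝟙 _ := by
    apply pullback.hom_ext <;> simp
  exact ((restr_id q (h := RingHom.id_comp χ) ⟨(MorphismProperty.Over.pullbackCongr (P := FEt.prop) (Q := ⊤)
    (h4.trans h3.symm)).app V⟩).some).symm

/-- A cover over a base change along an algebra comes from a finitely generated subalgebra. -/
theorem exists_descent_sub {R B : Type u} [CommRing R] [CommRing B] [Algebra R B] (φ : R₀ →+* R)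
    {φB : R₀ →+* B} (hB : (algebraMap R B).comp φ = φB) (W : FEt.Cat (bc q φB)) :
    ∃ (C : Subalgebra R B) (_ : C.FG) (W₁ : FEt.Cat (bc q ((algebraMap R C).comp φ))),
      Restr q (algebraMap C B) (show (algebraMap C B).comp ((algebraMap R C).comp φ) = φB by
        rw [← RingHom.comp_assoc, ← IsScalarTower.algebraMap_eq, hB]) W₁ W := by
  subst hB
  let g := pullback.snd q (Spec.map (CommRingCat.ofHom φ))
  haveI : IsProper g := MorphismProperty.pullback_snd _ _ inferInstance
  haveI : CompactSpace ↥(bc q φ) := QuasiCompact.compactSpace_of_compactSpace g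
  haveI : QuasiSeparatedSpace ↥(bc q φ) := quasiSeparatedSpace_of_quasiSeparated g
  let μ : pullback g (Spec.map (CommRingCat.ofHom (algebraMap R B))) ⟶ bc q ((algebraMap R B).comp φ) :=
    pullback.lift (pullback.fst _ _ ≫ pullback.fst _ _) (pullback.snd _ _) (by
      rw [Category.assoc, pullback.condition, pullback.condition_assoc, ← Spec.map_comp,
        ← CommRingCat.ofHom_comp])
  obtain ⟨C, hC, WC, ⟨eC⟩⟩ := SubAlg.exists_cover_finSub B g ((FEt.restrict μ).obj W)
  let ν : bc q ((algebraMap R C).comp φ) ⟶ pullback g (SubAlg.stageMap B C) :=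
    pullback.lift (bcMap q (algebraMap R C) rfl) (pullback.snd _ _) (bcMap_snd q _ _)
  let μ' : bc q ((algebraMap R B).comp φ) ⟶ pullback g (Spec.map (CommRingCat.ofHom (algebraMap R B))) :=
    pullback.lift (bcMap q (algebraMap R B) rfl) (pullback.snd _ _) (bcMap_snd q _ _)
  have hcC : (algebraMap C B).comp ((algebraMap R C).comp φ) = (algebraMap R B).comp φ := by
    rw [← RingHom.comp_assoc, ← IsScalarTower.algebraMap_eq]
  have hν : bcMap q (algebraMap C B) hcC ≫ ν = μ' ≫ SubAlg.toStage B g C := by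
    apply pullback.hom_ext
    · simp only [ν, μ', Category.assoc, pullback.lift_fst, SubAlg.toStage_fst]
      rw [bcMap_comp]
      congr 1
    · simp [ν, μ', -CommRingCat.ofHom_comp]
  have hμ : μ' ≫ μ = 𝟙 _ := by
    apply pullback.hom_ext <;> simp [μ, μ', -CommRingCat.ofHom_comp]
  obtain ⟨eid⟩ : Nonempty (W ≅ (FEt.restrict (μ' ≫ μ)).obj W) := by
    have h4 : bcMap q (RingHom.id B) (RingHom.id_comp ((algebraMap R B).comp φ)) = 𝟙 _ := by
      apply pullback.hom_ext <;> simp [-CommRingCat.ofHom_comp]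
    exact restr_id q (h := RingHom.id_comp ((algebraMap R B).comp φ))
      ⟨(MorphismProperty.Over.pullbackCongr (P := FEt.prop) (Q := ⊤) (h4.trans hμ.symm)).app W⟩
  refine ⟨C, hC, (FEt.restrict ν).obj WC,
    ⟨((MorphismProperty.Over.pullbackComp (P := FEt.prop) (Q := ⊤) (bcMap q (algebraMap C B) hcC) ν).app
        WC).symm ≪≫
      (MorphismProperty.Over.pullbackCongr (P := FEt.prop) (Q := ⊤) hν).app WC ≪≫
      (MorphismProperty.Over.pullbackComp (P := FEt.prop) (Q := ⊤) μ' (SubAlg.toStage B g C)).app WC ≪≫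
      (FEt.restrict μ').mapIso eC ≪≫
      ((MorphismProperty.Over.pullbackComp (P := FEt.prop) (Q := ⊤) μ' μ).app W).symm ≪≫ eid.symm⟩⟩

/-- Extension through a complete algebra admitting approximation. -/
theorem exists_extension_of_approx {R : Type u} [CommRing R] (J : Ideal R) {B : Type u} [CommRing B]
    [IsNoetherianRing B] [Algebra R B] (π₁ : B →+* R ⧸ J) (hπ₁ : π₁.comp (algebraMap R B) = Ideal.Quotient.mk J)
    [IsAdicComplete (J.map (algebraMap R B)) B]
    (happ : ∀ C : Subalgebra R B, C.FG →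
      ∃ ψ : C →ₐ[R] R, (Ideal.Quotient.mk J).comp ψ.toRingHom = π₁.comp (algebraMap C B))
    (φ : R₀ →+* R) {χ : R₀ →+* R ⧸ J} (h : (Ideal.Quotient.mk J).comp φ = χ) (V : FEt.Cat (bc q χ)) :
    ∃ W : FEt.Cat (bc q φ), Restr q (Ideal.Quotient.mk J) h W V := by
  let K : Ideal B := J.map (algebraMap R B)
  have hK : ∀ b ∈ K, π₁ b = 0 := by
    intro b hb
    have : K ≤ RingHom.ker π₁ := by
      rw [Ideal.map_le_iff_le_comap]
      intro a ha
      show π₁ (algebraMap R B a) = 0
      rw [← RingHom.comp_apply, hπ₁]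
      exact Ideal.Quotient.eq_zero_iff_mem.2 ha
    exact this hb
  let down : B ⧸ K →+* R ⧸ J := Ideal.Quotient.lift K π₁ hK
  let up : R ⧸ J →+* B ⧸ K := Ideal.Quotient.lift J ((Ideal.Quotient.mk K).comp (algebraMap R B))
    (fun a ha => Ideal.Quotient.eq_zero_iff_mem.2 (Ideal.mem_map_of_mem _ ha))
  have hdu : down.comp up = RingHom.id _ := Ideal.Quotient.ringHom_ext (by
    ext a
    exact RingHom.congr_fun hπ₁ a)
  let φh : R₀ →+* B := (algebraMap R B).comp φ
  have hup : up.comp χ = (Ideal.Quotient.mk K).comp φh := by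
    rw [← h, ← RingHom.comp_assoc, ← RingHom.comp_assoc]
    congr 1
  have hd : down.comp ((Ideal.Quotient.mk K).comp φh) = χ := by
    rw [← hup, ← RingHom.comp_assoc, hdu, RingHom.id_comp]
  let V' := (FEt.restrict (bcMap q up hup)).obj V
  obtain ⟨Wh, eWh⟩ := exists_extension_complete q K φh rfl V'
  obtain ⟨C, hC, W₁, eW⟩ := exists_descent_sub q φ (φB := φh) rfl Wh
  obtain ⟨ψ, hψ⟩ := happ C hC
  have hψφ : ψ.toRingHom.comp ((algebraMap R C).comp φ) = φ := by
    have : ψ.toRingHom.comp (algebraMap R C) = RingHom.id R := ψ.comp_algebraMap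
    rw [← RingHom.comp_assoc, this, RingHom.id_comp]
  refine ⟨(FEt.restrict (bcMap q ψ.toRingHom hψφ)).obj W₁, ?_⟩
  have hkey : (Ideal.Quotient.mk J).comp ψ.toRingHom =
      down.comp ((Ideal.Quotient.mk K).comp (algebraMap C B)) := by
    rw [hψ]
    rfl
  have eV : Restr q down hd V' V := by
    have e1 := restr_trans q (restr_self q up hup V) (restr_self q down hd V')
    have e2 : Restr q (RingHom.id (R ⧸ J)) (RingHom.id_comp χ) V ((FEt.restrict (bcMap q down hd)).obj V') :=
      restr_congr q e1 hdu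
    obtain ⟨e⟩ := restr_id q e2
    exact ⟨e.symm⟩
  have e3 := restr_trans q (restr_trans q eW eWh) eV
  obtain ⟨e4⟩ := restr_congr q (ψ' := (Ideal.Quotient.mk J).comp ψ.toRingHom)
    (h' := by rw [RingHom.comp_assoc, hψφ, h]) e3 hkey.symm
  obtain ⟨e5⟩ := restr_trans q (restr_self q ψ.toRingHom hψφ W₁)
    (restr_self q (Ideal.Quotient.mk J) h ((FEt.restrict (bcMap q ψ.toRingHom hψφ)).obj W₁))
  exact ⟨e5.symm ≪≫ e4⟩

/-- The case of a Noetherian henselian G-ring, by Artin approximation. -/
theorem exists_extension_gring {R : Type u} [CommRing R] [IsNoetherianRing R] (J : Ideal R)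
    [HenselianRing R J] (hG : CAlg.IsGRing R) (φ : R₀ →+* R) {χ : R₀ →+* R ⧸ J}
    (h : (Ideal.Quotient.mk J).comp φ = χ) (V : FEt.Cat (bc q χ)) :
    ∃ W : FEt.Cat (bc q φ), Restr q (Ideal.Quotient.mk J) h W V := by
  haveI : IsAdicComplete (J.map (algebraMap R (AdicCompletion J R))) (AdicCompletion J R) :=
    AdicCompletion.isAdicComplete_self J J.fg_of_isNoetherianRing
  haveI : IsNoetherianRing (AdicCompletion J R) := GrothLib.AdicExtra.isNoetherianRing_adicCompletion J
  refine exists_extension_of_approx q J (AdicCompletion.evalOneₐ J).toRingHom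
    (AdicCompletion.evalOneₐ_comp_algebraMap_eq_mk J) (fun C hC => ?_) φ h V
  haveI : Algebra.FiniteType R C := (Subalgebra.fg_iff_finiteType C).1 hC
  haveI : Algebra.FinitePresentation R C := Algebra.FinitePresentation.of_finiteType.1 inferInstance
  obtain ⟨ψ, hψ⟩ := Smoothing.Approx.exists_algHom_approx J (Smoothing.Approx.isRegularHom_adicCompletion hG J)
    C (IsScalarTower.toAlgHom R C (AdicCompletion J R)) 1
  refine ⟨ψ, RingHom.ext fun c => ?_⟩
  have := congrArg (Ideal.Quotient.factor (S := J ^ 1) (T := J) (le_of_eq (pow_one J))) (AlgHom.congr_fun hψ c)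
  refine this.trans ?_
  rfl

end Groth.Agent.ProperBC21
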