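import Groth.Prelude.Def_RelSpec
import Groth.Prelude.Def_Formal
import Groth.Agent.Lib.QCAlgFT9.Gen
import Groth.Agent.Lib.QCoh.ClosedImmersion
import Groth.Agent.Lib.FormalFn.Sections
import Groth.Agent.Lib.FormalFn.Push

/-!
# Direct image algebras of finite morphisms as coherent modules
-/

set_option autoImplicit false
set_option linter.style.haveILetI false
set_option backward.isDefEq.respectTransparency false

universe u

open CategoryTheory CategoryTheory.Limits AlgebraicGeometry TopologicalSpace Opposite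

noncomputable section

namespace Groth.Agent.ProperBC21

variable {A : Type u} [CommRing A] {X : Scheme.{u}}

theorem toModuleMap_app {B C : RelSpec.QCAlg X} (φ : B ⟶ C) (U : X.Opens) (x : B.presheaf.obj (op U)) :
    (RelSpec.QCAlg.Hom.toModuleMap φ).app U x = (φ.hom.app (op U)).hom x := rfl

theorem toModuleMap_comp {B C D : RelSpec.QCAlg X} (φ : B ⟶ C) (ψ : C ⟶ D) :
    RelSpec.QCAlg.Hom.toModuleMap (φ ≫ ψ) =
      RelSpec.QCAlg.Hom.toModuleMap φ ≫ RelSpec.QCAlg.Hom.toModuleMap ψ := by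
  apply Scheme.Modules.hom_ext
  intro U
  rfl

theorem isCoh_toModule_directImage {Y : Scheme.{u}} (g : Y ⟶ X) [IsFinite g] :
    Coh.IsCoh (RelSpec.QCAlg.directImage g).toModule := by
  haveI hq := GrothLib.QCAlgFT9.isQuasicoherent_toModule (RelSpec.QCAlg.directImage g)
  refine ⟨hq, (GrothLib.QCoh.isFiniteType_iff_moduleFinite _).2 fun U hU => ?_⟩
  letI : Algebra Γ(X, U) Γ(Y, g ⁻¹ᵁ U) := (g.app U).hom.toAlgebra
  exact (g.finite_app U hU : Module.Finite Γ(X, U) Γ(Y, g ⁻¹ᵁ U))

theorem support_toModule_directImage {Y : Scheme.{u}} (g : Y ⟶ X) [IsFinite g] :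
    CohB1.support (RelSpec.QCAlg.directImage g).toModule ⊆ Set.range g := by
  intro x hx
  by_contra hxf
  let O : X.Opens := ⟨(Set.range g)ᶜ, g.isClosedMap.isClosed_range.isOpen_compl⟩
  refine absurd hx (GrothLib.QCoh.notMem_support_of_forall_subsingleton _ (W := O) (fun V hV ↦ ?_) hxf)
  have h : g ⁻¹ᵁ V = ⊥ := le_antisymm (fun y hy ↦ ((hV hy) ⟨y, rfl⟩).elim) bot_le
  change Subsingleton Γ(Y, g ⁻¹ᵁ V)
  rw [h]
  infer_instance

variable [X.Over (Spec (CommRingCat.of A))]

/-- Affine criterion for quotients by the multiples of an ideal. -/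
theorem isQuot_of_affine [IsLocallyNoetherian X] {J : Ideal A} {M N : X.Modules} (π : M ⟶ N)
    (hM : Coh.IsCoh M) (hN : Coh.IsCoh N) (hNk : Formal.KilledBy J N)
    (hsurj : ∀ U : X.Opens, IsAffineOpen U → Function.Surjective (π.app U))
    (hker : ∀ U : X.Opens, IsAffineOpen U → ∀ (P : AddSubgroup Γ(M, U)),
      (∀ a ∈ J, ∀ t, (Formal.smulMod A M a).app U t ∈ P) → ∀ z, π.app U z = 0 → z ∈ P) :
    GrothLib.FormalSys.IsQuot J π := by
  let q := cokernel.π (Formal.smulFamily J M)
  have hq : GrothLib.FormalSys.IsQuot J q := GrothLib.FormalSys.IsQuot.cokernelπ J M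
  obtain ⟨ψ, hψ⟩ := hq.exists_desc' π hNk
  haveI := hN.1
  haveI : (cokernel (Formal.smulFamily J M)).IsQuasicoherent :=
    (GrothLib.FormalFn.isCoh_cokernel_smulFamily J hM).1
  have hbij : ∀ U : X.Opens, IsAffineOpen U → Function.Bijective (ψ.app U) := fun U hU => by
    obtain ⟨hqs, -⟩ := GrothLib.FormalFn.app_isQuot hM hq hU
    have hc : ∀ z, ψ.app U (q.app U z) = π.app U z := fun z =>
      ConcreteCategory.congr_hom (congrArg (fun t => Scheme.Modules.Hom.app t U) hψ) z
    refine ⟨(injective_iff_map_eq_zero _).2 fun w hw => ?_, fun v => ?_⟩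
    · obtain ⟨z, rfl⟩ := hqs w
      refine AddMonoidHom.mem_ker.1 (hker U hU (AddMonoidHom.ker (q.app U).hom) (fun a ha t => ?_) z
        ((hc z).symm.trans hw))
      exact ConcreteCategory.congr_hom
        (congrArg (fun s => Scheme.Modules.Hom.app s U) (hq.comp_eq_zero a ha)) t
    · obtain ⟨z, rfl⟩ := hsurj U hU v
      exact ⟨q.app U z, hc z⟩
  haveI : IsIso ψ := GrothLib.QCoh.isIso_of_bijective_on_cover ψ (fun U : X.affineOpens => U.1)
    (iSup_affineOpens_eq_top X) (fun U => U.2) fun U => hbij U.1 U.2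
  rw [← hψ]
  exact hq.comp_isIso ψ

/-- Sections of the base ring acting on a direct image algebra. -/
theorem smulMod_app_directImage {Y : Scheme.{u}} (g : Y ⟶ X) [QuasiCompact g] [QuasiSeparated g]
    (a : A) (U : X.Opens) (t : Γ(Y, g ⁻¹ᵁ U)) :
    (Formal.smulMod A (RelSpec.QCAlg.directImage g).toModule a).app U t =
      (show Γ(Y, g ⁻¹ᵁ U) from
        Y.presheaf.map (homOfLE le_top).op
          ((g ≫ (X ↘ Spec (CommRingCat.of A))).appTop ((Scheme.ΓSpecIso (CommRingCat.of A)).inv a)) * t) := by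
  refine (Coh.smulAb_app (RelSpec.QCAlg.directImage g).toModule _ (op U) t).trans ?_
  show g.app U (X.presheaf.map (homOfLE le_top).op (Coh.toGlobal (X ↘ Spec (CommRingCat.of A)) a)) * t = _
  congr 1
  rw [← ConcreteCategory.comp_apply (X.presheaf.map _) (g.app U), g.naturality, ConcreteCategory.comp_apply]
  rfl

end Groth.Agent.ProperBC21
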