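import Groth.Agent.ProperBC21.FiniteAlg
import Groth.Agent.Lib.FormalExist7.ThickAlg
import Groth.Agent.Lib.RLpsi8.AffPushout

/-!
# The formal module of a compatible system of finite schemes over the thickenings
-/

set_option autoImplicit false
set_option linter.style.haveILetI false
set_option linter.unusedSectionVars false
set_option backward.isDefEq.respectTransparency false

universe u

open CategoryTheory CategoryTheory.Limits AlgebraicGeometry TopologicalSpace Opposite

noncomputable section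

namespace Groth.Agent.ProperBC21

open GrothLib.FormalExist7

variable {A : Type u} [CommRing A] {X : Scheme.{u}} (f : X ⟶ Spec (CommRingCat.of A)) (I : Ideal A)

theorem mono_thickι (n : ℕ) : Mono (CohB1.thickι f I n) := by
  haveI := isClosedImmersion_thickι f I n
  infer_instance

/-- The transition square of the thickenings is the base change of `Spec A/I^(n+1)`. -/
theorem isPullback_thickTrans (n : ℕ) :
    IsPullback (CohB1.thickTrans f I n) (CohB1.thickToBase f I n) (CohB1.thickι f I (n + 1) ≫ f)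
      (CohB1.specQuot I n) := by
  haveI := mono_thickι f I (n + 1)
  have h1 : IsPullback (𝟙 (CohB1.thick f I n)) (CohB1.thickTrans f I n) (CohB1.thickι f I n)
      (CohB1.thickι f I (n + 1)) := by
    refine IsPullback.of_isLimit' ⟨by rw [Category.id_comp, thickTrans_thickι]⟩
      (PullbackCone.IsLimit.mk _ (fun s => s.fst) (fun s => Category.comp_id _) (fun s => ?_)
        (fun s m hm _ => (Category.comp_id _).symm.trans hm))
    rw [← cancel_mono (CohB1.thickι f I (n + 1)), Category.assoc, thickTrans_thickι]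
    exact s.condition
  simpa using h1.flip.paste_vert (IsPullback.of_hasPullback f (CohB1.specQuot I n))

variable (Y : ℕ → Scheme.{u}) (y : (n : ℕ) → (Y n ⟶ CohB1.thick f I n)) (t : (n : ℕ) → (Y n ⟶ Y (n + 1)))

/-- The finite morphism to `X`. -/
abbrev toX (n : ℕ) : Y n ⟶ X := y n ≫ CohB1.thickι f I n

/-- The structure morphism to `Spec A/I^(n+1)`. -/
abbrev toBase (n : ℕ) : Y n ⟶ Spec (CommRingCat.of (A ⧸ I ^ (n + 1))) := y n ≫ CohB1.thickToBase f I n

theorem toX_comp (n : ℕ) : toX f I Y y n ≫ f = toBase f I Y y n ≫ CohB1.specQuot I n := by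
  rw [Category.assoc, Category.assoc]
  exact congrArg (y n ≫ ·) pullback.condition

variable (hy : ∀ n, IsFinite (y n))
  (ht : ∀ n, IsPullback (t n) (y n) (y (n + 1)) (CohB1.thickTrans f I n))

include ht in
theorem t_toX (n : ℕ) : t n ≫ toX f I Y y (n + 1) = toX f I Y y n := by
  rw [← Category.assoc, (ht n).w, Category.assoc, thickTrans_thickι]

include ht in
theorem isPullback_t (n : ℕ) :
    IsPullback (t n) (toBase f I Y y n) (toX f I Y y (n + 1) ≫ f) (CohB1.specQuot I n) := by
  rw [Category.assoc]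
  exact (ht n).paste_vert (isPullback_thickTrans f I n)

include hy in
theorem isFinite_toX (n : ℕ) : IsFinite (toX f I Y y n) := by
  haveI := hy n
  haveI := isClosedImmersion_thickι f I n
  infer_instance

include ht in
theorem isClosedImmersion_t (n : ℕ) : IsClosedImmersion (t n) :=
  MorphismProperty.of_isPullback (isPullback_t f I Y y t ht n).flip (isClosedImmersion_specQuot I n)

include ht in
theorem ker_t (n : ℕ) :
    (t n).ker = (FSch.idealSpec A (I ^ (n + 1))).comap (toX f I Y y (n + 1) ≫ f) := by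
  haveI := isClosedImmersion_specQuot I n
  rw [← (isPullback_t f I Y y t ht n).isoPullback_hom_fst, Scheme.Hom.ker_comp_of_isIso]
  exact Scheme.IdealSheafData.ker_fst_of_isClosedImmersion (CohB1.specQuot I n) _

include ht in
theorem toX_preimage (n : ℕ) (U : X.Opens) :
    toX f I Y y n ⁻¹ᵁ U = t n ⁻¹ᵁ (toX f I Y y (n + 1) ⁻¹ᵁ U) :=
  congrArg (fun k => k ⁻¹ᵁ U) (t_toX f I Y y t ht n).symm

include ht in
theorem appTop_eq_zero (n : ℕ) (a : A) (ha : a ∈ I ^ (n + 1)) :
    (toX f I Y y n ≫ f).appTop ((Scheme.ΓSpecIso (CommRingCat.of A)).inv a) = 0 := by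
  rw [toX_comp, Scheme.Hom.comp_appTop, ConcreteCategory.comp_apply]
  have : (CohB1.specQuot I n).appTop ((Scheme.ΓSpecIso (CommRingCat.of A)).inv a) =
      (Scheme.ΓSpecIso (CommRingCat.of (A ⧸ I ^ (n + 1)))).inv (Ideal.Quotient.mk (I ^ (n + 1)) a) :=
    (ConcreteCategory.congr_hom (Scheme.ΓSpecIso_inv_naturality
      (CommRingCat.ofHom (Ideal.Quotient.mk (I ^ (n + 1))))) a).symm
  rw [this, Ideal.Quotient.eq_zero_iff_mem.2 ha, map_zero, map_zero]

include hy ht in
theorem killedBy_directImage (n : ℕ) :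
    letI : X.Over (Spec (CommRingCat.of A)) := ⟨f⟩
    haveI := isFinite_toX f I Y y hy n
    Formal.KilledBy (I ^ (n + 1)) (RelSpec.QCAlg.directImage (toX f I Y y n)).toModule := by
  intro a ha
  apply Scheme.Modules.hom_ext
  intro U
  refine AddCommGrpCat.hom_ext (AddMonoidHom.ext fun s => ?_)
  haveI := isFinite_toX f I Y y hy n
  letI : X.Over (Spec (CommRingCat.of A)) := ⟨f⟩
  refine (smulMod_app_directImage (toX f I Y y n) a U s).trans ?_
  have key : ∀ s' : Γ(Y n, toX f I Y y n ⁻¹ᵁ U),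
      (Y n).presheaf.map (homOfLE le_top).op
        ((toX f I Y y n ≫ f).appTop ((Scheme.ΓSpecIso (CommRingCat.of A)).inv a)) * s' = 0 := fun s' => by
    rw [appTop_eq_zero f I Y y t ht n a ha, map_zero, zero_mul]
  exact key s

include ht in
theorem app_surjective_t (n : ℕ) [IsAffineHom (toX f I Y y (n + 1))] {U : X.Opens} (hU : IsAffineOpen U) :
    Function.Surjective ((AffAlg.algHom (toX f I Y y (n + 1)) (toX f I Y y n) (t n)
      (t_toX f I Y y t ht n)).app (op U)) := by
  intro s
  haveI := isClosedImmersion_t f I Y y t ht n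
  have hP' : IsAffineOpen (toX f I Y y (n + 1) ⁻¹ᵁ U) := hU.preimage _
  have he := toX_preimage f I Y y t ht n U
  haveI : IsIso (homOfLE he.le) := ⟨homOfLE he.ge, Subsingleton.elim _ _, Subsingleton.elim _ _⟩
  obtain ⟨r, hr⟩ := (ConcreteCategory.bijective_of_isIso ((Y n).presheaf.map (homOfLE he.le).op)).2 s
  obtain ⟨w, rfl⟩ := (t n).app_surjective _ hP' r
  refine ⟨w, ?_⟩
  rw [GrothLib.AffAlg8.algHom_app]
  exact hr

include ht in
theorem mem_map_of_app_eq_zero (n : ℕ) [IsAffineHom (toX f I Y y (n + 1))] {U : X.Opens} (hU : IsAffineOpen U)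
    (z : Γ(Y (n + 1), toX f I Y y (n + 1) ⁻¹ᵁ U))
    (hz : (AffAlg.algHom (toX f I Y y (n + 1)) (toX f I Y y n) (t n)
      (t_toX f I Y y t ht n)).app (op U) z = 0) :
    letI : (Y (n + 1)).Over (Spec (CommRingCat.of A)) := ⟨toX f I Y y (n + 1) ≫ f⟩
    z ∈ (I ^ (n + 1)).map (GrothLib.FormalFun.toSec A (toX f I Y y (n + 1) ⁻¹ᵁ U)) := by
  letI : (Y (n + 1)).Over (Spec (CommRingCat.of A)) := ⟨toX f I Y y (n + 1) ≫ f⟩
  haveI := isClosedImmersion_t f I Y y t ht n
  have hP' : IsAffineOpen (toX f I Y y (n + 1) ⁻¹ᵁ U) := hU.preimage _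
  have hz' : (t n).app (toX f I Y y (n + 1) ⁻¹ᵁ U) z = 0 := by
    have he := toX_preimage f I Y y t ht n U
    haveI : IsIso (homOfLE he.le) := ⟨homOfLE he.ge, Subsingleton.elim _ _, Subsingleton.elim _ _⟩
    apply (ConcreteCategory.bijective_of_isIso ((Y n).presheaf.map (homOfLE he.le).op)).1
    rw [map_zero]
    rw [GrothLib.AffAlg8.algHom_app] at hz
    exact hz
  have hmem : z ∈ (t n).ker.ideal ⟨_, hP'⟩ := by
    rw [Scheme.Hom.ker_apply]
    exact hz'
  rw [ker_t f I Y y t ht n] at hmem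
  rwa [show (FSch.idealSpec A (I ^ (n + 1))).comap (toX f I Y y (n + 1) ≫ f) =
    GrothLib.FormalExist7.baseIdeal (Y (n + 1)) (I ^ (n + 1)) from rfl,
    GrothLib.FormalExist7.ideal_baseIdeal] at hmem

theorem span_mem {R : Type u} [CommRing R] (φ : A → R) (J : Ideal A) (P : AddSubgroup R)
    (h : ∀ a ∈ J, ∀ r, φ a * r ∈ P) {z : R} (hz : z ∈ Ideal.span (φ '' J)) : z ∈ P := by
  suffices H : ∀ r : R, r * z ∈ P by simpa only [one_mul] using H 1
  refine Submodule.span_induction (p := fun x _ => ∀ r : R, r * x ∈ P) ?_ ?_ ?_ ?_ hz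
  · rintro _ ⟨a, ha, rfl⟩ r
    rw [mul_comm r]
    exact h a ha r
  · intro r
    rw [mul_zero]
    exact P.zero_mem
  · intro x x' _ _ hx hx' r
    rw [mul_add]
    exact P.add_mem (hx r) (hx' r)
  · intro c x _ hx r
    rw [smul_eq_mul, ← mul_assoc]
    exact hx (r * c)

/-- The transitions. -/
def tr (n : ℕ) [IsAffineHom (toX f I Y y n)] [IsAffineHom (toX f I Y y (n + 1))]
    (hT : ∀ n, IsPullback (t n) (y n) (y (n + 1)) (CohB1.thickTrans f I n)) :
    RelSpec.QCAlg.directImage (toX f I Y y (n + 1)) ⟶ RelSpec.QCAlg.directImage (toX f I Y y n) :=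
  ⟨AffAlg.algHom (toX f I Y y (n + 1)) (toX f I Y y n) (t n) (t_toX f I Y y t hT n),
    AffAlg.algHom_comm _ _ _ _⟩

/-- Affine criterion for a map of algebras to be the quotient by the multiples of `J`. -/
theorem isQuot_toModuleMap [X.Over (Spec (CommRingCat.of A))] [IsLocallyNoetherian X] {J : Ideal A}
    {B C : RelSpec.QCAlg X} (φ : B ⟶ C) (hB : Coh.IsCoh B.toModule) (hC : Coh.IsCoh C.toModule)
    (hk : Formal.KilledBy J C.toModule)
    (hsurj : ∀ U : X.Opens, IsAffineOpen U → Function.Surjective (φ.hom.app (op U)).hom)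
    (hker : ∀ U : X.Opens, IsAffineOpen U → ∀ z, (φ.hom.app (op U)).hom z = 0 →
      z ∈ Ideal.span ((fun a => (B.str.app (op U)).hom
        (X.presheaf.map (homOfLE le_top).op (Coh.toGlobal (X ↘ Spec (CommRingCat.of A)) a))) '' J)) :
    GrothLib.FormalSys.IsQuot J (RelSpec.QCAlg.Hom.toModuleMap φ) := by
  refine isQuot_of_affine _ hB hC hk (fun U hU => hsurj U hU) (fun U hU P hP z hz => ?_)
  refine span_mem (R := B.presheaf.obj (op U)) (fun a => (B.str.app (op U)).hom
        (X.presheaf.map (homOfLE le_top).op (Coh.toGlobal (X ↘ Spec (CommRingCat.of A)) a))) J P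
    (fun a ha r => ?_) (hker U hU z hz)
  refine Eq.subst (motive := (· ∈ P)) ?_ (hP a ha r)
  exact Coh.smulAb_app B.toModule _ (op U) r

theorem str_toGlobal [X.Over (Spec (CommRingCat.of A))] {T : Scheme.{u}} (g : T ⟶ X) (a : A) (U : X.Opens) :
    g.app U (X.presheaf.map (homOfLE le_top).op (Coh.toGlobal (X ↘ Spec (CommRingCat.of A)) a)) =
      T.presheaf.map (homOfLE le_top).op
        ((g ≫ (X ↘ Spec (CommRingCat.of A))).appTop ((Scheme.ΓSpecIso (CommRingCat.of A)).inv a)) := by
  rw [← ConcreteCategory.comp_apply (X.presheaf.map _) (g.app U), g.naturality, ConcreteCategory.comp_apply]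
  rfl

include hy ht in
theorem isQuot_trans [IsNoetherianRing A] [LocallyOfFiniteType f] (n : ℕ) :
    letI : X.Over (Spec (CommRingCat.of A)) := ⟨f⟩
    haveI := isFinite_toX f I Y y hy
    GrothLib.FormalSys.IsQuot (I ^ (n + 1)) (RelSpec.QCAlg.Hom.toModuleMap (tr f I Y y t hy n ht)) := by

  letI : X.Over (Spec (CommRingCat.of A)) := ⟨f⟩
  haveI := isFinite_toX f I Y y hy
  haveI : IsLocallyNoetherian X := LocallyOfFiniteType.isLocallyNoetherian f
  refine isQuot_toModuleMap _ (isCoh_toModule_directImage _) (isCoh_toModule_directImage _)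
    (killedBy_directImage f I Y y t hy ht n)
    (fun U hU => app_surjective_t f I Y y t ht n hU) (fun U hU z hz => ?_)
  have h := mem_map_of_app_eq_zero f I Y y t ht n hU z hz
  refine Eq.subst (motive := fun S => z ∈ Ideal.span S) ?_ h
  refine Set.image_congr fun a _ => ?_
  exact (str_toGlobal (toX f I Y y (n + 1)) a U).symm

end Groth.Agent.ProperBC21
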