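import Groth.Agent.Lib.PropH0.Clopen
import Groth.Agent.Lib.FEt21.Graph

/-!
# Restriction to the closed fibre of a proper scheme over a henselian pair is fully faithful
-/

set_option autoImplicit false

universe u

open CategoryTheory CategoryTheory.Limits AlgebraicGeometry

namespace Groth.Agent.ProperBC21

variable {A : Type u} [CommRing A] (I : Ideal A) [HenselianRing A I] {X : Scheme.{u}}
  (f : X ⟶ Spec (CommRingCat.of A)) [IsProper f]

/-- The inclusion of the closed fibre. -/
noncomputable abbrev cl : pullback f (Spec.map (CommRingCat.ofHom (Ideal.Quotient.mk I))) ⟶ X :=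
  pullback.fst f (Spec.map (CommRingCat.ofHom (Ideal.Quotient.mk I)))

theorem fullyFaithful_restrict :
    (FEt.restrict (cl I f)).Full ∧ (FEt.restrict (cl I f)).Faithful := by
  refine GrothLib.FEt21.fullyFaithful_of_clopen _ (fun B D hD he => ?_) (fun B C hC => ?_)
  · haveI : IsFinite B.hom := B.prop.1
    obtain ⟨U, -, huniq⟩ := GrothLib.PropH0.existsUnique_finite f I B.hom ∅ isClopen_empty
    rw [huniq D ⟨hD, he⟩, huniq ∅ ⟨isClopen_empty, Set.preimage_empty⟩]
  · haveI : IsFinite B.hom := B.prop.1
    obtain ⟨U, hU, -⟩ := GrothLib.PropH0.existsUnique_finite f I B.hom C hC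
    exact ⟨U, hU.1, hU.2⟩

end Groth.Agent.ProperBC21
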