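import Groth.Agent.ProperBC21.Main
import Groth.Agent.ConstFam21.Equiv
import Mathlib.AlgebraicGeometry.Morphisms.FlatMono
import Mathlib.FieldTheory.IsAlgClosed.AlgebraicClosure
import Mathlib.FieldTheory.SeparableClosure

/-!
# Covers of the geometric closed fibre sit inside restrictions of covers
-/

set_option autoImplicit false
set_option linter.style.haveILetI false
set_option linter.unusedSectionVars false
set_option backward.isDefEq.respectTransparency false

universe u

open CategoryTheory CategoryTheory.Limits AlgebraicGeometry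

noncomputable section

namespace Groth.Agent.ProperBC21

variable {R₀ : Type u} [CommRing R₀] {Q : Scheme.{u}} (q : Q ⟶ Spec (CommRingCat.of R₀))

theorem isPullback_bcMap {S T : Type u} [CommRing S] [CommRing T] {φ : R₀ →+* S} {χ : R₀ →+* T}
    (ψ : S →+* T) (h : ψ.comp φ = χ) :
    IsPullback (bcMap q ψ h) (pullback.snd q (Spec.map (CommRingCat.ofHom χ)))
      (pullback.snd q (Spec.map (CommRingCat.ofHom φ))) (Spec.map (CommRingCat.ofHom ψ)) := by
  refine IsPullback.of_right (h₁₂ := pullback.fst q (Spec.map (CommRingCat.ofHom φ))) (v₁₃ := q)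
    (h₂₂ := Spec.map (CommRingCat.ofHom φ)) ?_ (bcMap_snd q ψ h) (IsPullback.of_hasPullback _ _)
  rw [bcMap_fst, ← Spec.map_comp, ← CommRingCat.ofHom_comp, h]
  exact IsPullback.of_hasPullback _ _

theorem isPullback_restrict_map {X Y : Scheme.{u}} (f : X ⟶ Y) {A B : FEt.Cat Y} (ι : A ⟶ B) :
    IsPullback ((FEt.restrict f).map ι).left (pullback.fst A.hom f) (pullback.fst B.hom f) ι.left := by
  have hA : IsPullback (pullback.snd A.hom f) (pullback.fst A.hom f) f A.hom :=
    (IsPullback.of_hasPullback A.hom f).flip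
  have hB : IsPullback (pullback.snd B.hom f) (pullback.fst B.hom f) f B.hom :=
    (IsPullback.of_hasPullback B.hom f).flip
  have h1 : ((FEt.restrict f).map ι).left ≫ pullback.fst B.hom f = pullback.fst A.hom f ≫ ι.left :=
    pullback.lift_fst _ _ _
  have h2 : ((FEt.restrict f).map ι).left ≫ pullback.snd B.hom f = pullback.snd A.hom f :=
    pullback.lift_snd _ _ _
  refine IsPullback.of_right (h₁₂ := pullback.snd B.hom f) (v₁₃ := f) (h₂₂ := B.hom) ?_ h1 hB
  rw [h2, MorphismProperty.Over.w ι]
  exact hA

/-- A section of a cover, pulled back along a finite étale map of the base, is a clopen immersion. -/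
theorem exists_clopen_in_restrict {X Y : Scheme.{u}} (p : X ⟶ Y) [IsFinite p] [Etale p] (W : FEt.Cat X) :
    ∃ (U : FEt.Cat Y) (ι : W ⟶ (FEt.restrict p).obj U),
      IsOpenImmersion ι.left ∧ IsClosedImmersion ι.left := by
  haveI : IsFinite W.hom := W.prop.1
  haveI : Etale W.hom := W.prop.2
  let U : FEt.Cat Y := MorphismProperty.Over.mk ⊤ (W.hom ≫ p) (GrothLib.FEt21.prop_of (W.hom ≫ p))
  let l : W.left ⟶ pullback (W.hom ≫ p) p := pullback.lift (𝟙 _) W.hom (Category.id_comp _)
  let ι : W ⟶ (FEt.restrict p).obj U := MorphismProperty.Over.homMk l (pullback.lift_snd _ _ _)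
  have hl : l ≫ pullback.fst (W.hom ≫ p) p = 𝟙 _ := pullback.lift_fst _ _ _
  haveI : Mono (l ≫ pullback.fst (W.hom ≫ p) p) := by rw [hl]; infer_instance
  haveI : Mono l := mono_of_mono l (pullback.fst (W.hom ≫ p) p)
  have hlp : FEt.prop l :=
    GrothLib.FEt21.prop_of_comp l (pullback.snd (W.hom ≫ p) p) ((FEt.restrict p).obj U).prop
      (by rw [pullback.lift_snd]; exact W.prop)
  haveI : IsFinite l := hlp.1
  haveI : Etale l := hlp.2
  refine ⟨U, ι, IsOpenImmersion.of_flat_of_mono l, ?_⟩
  exact (IsClosedImmersion.iff_isFinite_and_mono l).2 ⟨inferInstance, inferInstance⟩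

variable [IsProper q]

/-- Covers of a base change to an algebraic closure sit inside covers of the base change to the field. -/
theorem exists_clopen_of_geometric {k : Type u} [Field k] (φ : R₀ →+* k)
    {χ : R₀ →+* AlgebraicClosure k} (h : (algebraMap k (AlgebraicClosure k)).comp φ = χ)
    (V : FEt.Cat (bc q χ)) :
    ∃ (U : FEt.Cat (bc q φ)) (ι : V ⟶ (FEt.restrict (bcMap q (algebraMap k (AlgebraicClosure k)) h)).obj U),
      IsOpenImmersion ι.left ∧ IsClosedImmersion ι.left := by
  let K := AlgebraicClosure k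
  let Ks := separableClosure k K
  haveI : IsPurelyInseparable Ks K := separableClosure.isPurelyInseparable k K
  let φs : R₀ →+* Ks := (algebraMap k Ks).comp φ
  have hs : (algebraMap Ks K).comp φs = χ := by
    rw [← RingHom.comp_assoc, ← IsScalarTower.algebraMap_eq, h]
  obtain ⟨h1, h2, h3⟩ := Groth.Agent.ConstFam21.uh_specMap Ks K
  have hpb := isPullback_bcMap q (algebraMap Ks K) hs
  haveI : IsIntegralHom (bcMap q (algebraMap Ks K) hs) := MorphismProperty.of_isPullback hpb.flip h1
  haveI : UniversallyInjective (bcMap q (algebraMap Ks K) hs) := MorphismProperty.of_isPullback hpb.flip h2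
  haveI : Surjective (bcMap q (algebraMap Ks K) hs) := MorphismProperty.of_isPullback hpb.flip h3
  haveI := GrothLib.FEt21.isEquivalence_of_uh (bcMap q (algebraMap Ks K) hs)
  let Vs := (FEt.restrict (bcMap q (algebraMap Ks K) hs)).objPreimage V
  let eV : (FEt.restrict (bcMap q (algebraMap Ks K) hs)).obj Vs ≅ V :=
    (FEt.restrict (bcMap q (algebraMap Ks K) hs)).objObjPreimageIso V
  obtain ⟨L, hL, W₁, eW⟩ := exists_descent_sub q φ (φB := φs) rfl Vs
  haveI : Algebra.FiniteType k L := (Subalgebra.fg_iff_finiteType L).1 hL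
  haveI : Algebra.IsSeparable k L := ⟨fun x => by
    have h4 := Algebra.IsSeparable.isSeparable k (L.val x)
    rwa [IsSeparable, minpoly.algHom_eq L.val Subtype.val_injective] at h4⟩
  haveI : Algebra.IsIntegral k L := ⟨fun x => (Algebra.IsSeparable.isSeparable k x).isIntegral⟩
  haveI : Module.Finite k L := Algebra.IsIntegral.finite
  letI : Field L := (isField_of_isIntegral_of_isField' (Field.toIsField k)).toField
  haveI : Algebra.FormallyEtale k L := (Algebra.FormallyEtale.iff_isSeparable k L).2 inferInstance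
  haveI : Algebra.Etale k L := ⟨inferInstance, Algebra.FinitePresentation.of_finiteType.1 inferInstance⟩
  let φL : R₀ →+* L := (algebraMap k L).comp φ
  have hpL := isPullback_bcMap q (algebraMap k L) (show (algebraMap k L).comp φ = φL from rfl)
  haveI : IsFinite (Spec.map (CommRingCat.ofHom (algebraMap k L))) :=
    (IsFinite.SpecMap_iff _).mpr (RingHom.finite_algebraMap.mpr inferInstance)
  haveI : Etale (Spec.map (CommRingCat.ofHom (algebraMap k L))) :=
    (HasRingHomProperty.Spec_iff (P := @Etale)).mpr (RingHom.etale_algebraMap.mpr inferInstance)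
  let p : bc q φL ⟶ bc q φ := bcMap q (algebraMap k L) rfl
  haveI : IsFinite p := MorphismProperty.of_isPullback hpL.flip inferInstance
  haveI : Etale p := MorphismProperty.of_isPullback hpL.flip inferInstance
  obtain ⟨U, ι, hι₁, hι₂⟩ := exists_clopen_in_restrict p W₁
  have hcL : (algebraMap L K).comp φL = χ := by
    rw [← RingHom.comp_assoc, ← IsScalarTower.algebraMap_eq, h]
  let m := bcMap q (algebraMap L K) hcL
  have hLK : (algebraMap Ks K).comp (algebraMap L Ks) = algebraMap L K := rfl
  obtain ⟨eW'⟩ := restr_congr q (ψ' := algebraMap L K) (h' := hcL) (restr_trans q eW ⟨eV⟩) hLK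
  have hm : m ≫ p = bcMap q (algebraMap k K) h := by
    rw [bcMap_comp]
    congr 1
  let γ : (FEt.restrict m).obj ((FEt.restrict p).obj U) ≅ (FEt.restrict (bcMap q (algebraMap k K) h)).obj U :=
    ((MorphismProperty.Over.pullbackComp (P := FEt.prop) (Q := ⊤) m p).app U).symm ≪≫
      (MorphismProperty.Over.pullbackCongr (P := FEt.prop) (Q := ⊤) hm).app U
  haveI : IsOpenImmersion ((FEt.restrict m).map ι).left :=
    MorphismProperty.of_isPullback (isPullback_restrict_map m ι).flip hι₁
  haveI : IsClosedImmersion ((FEt.restrict m).map ι).left :=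
    MorphismProperty.of_isPullback (isPullback_restrict_map m ι).flip hι₂
  refine ⟨U, eW'.inv ≫ (FEt.restrict m).map ι ≫ γ.hom, ?_, ?_⟩
  · show IsOpenImmersion (eW'.inv.left ≫ ((FEt.restrict m).map ι).left ≫ γ.hom.left)
    infer_instance
  · show IsClosedImmersion (eW'.inv.left ≫ ((FEt.restrict m).map ι).left ≫ γ.hom.left)
    infer_instance

end Groth.Agent.ProperBC21
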