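import Groth.Agent.ProperBC21.Extend
import Groth.Agent.ProperBC21.FullFaith
import Groth.Agent.S2147
import Groth.Agent.S9309

/-!
# Proper base change for finite etale covers over a henselian pair
-/

set_option autoImplicit false
set_option linter.style.haveILetI false
set_option linter.unusedSectionVars false
set_option backward.isDefEq.respectTransparency false

universe u

open CategoryTheory CategoryTheory.Limits AlgebraicGeometry Opposite

noncomputable section

namespace Groth.Agent.ProperBC21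

section Pair

variable {R₀ : Type u} [CommRing R₀] {Q : Scheme.{u}} (q : Q ⟶ Spec (CommRingCat.of R₀)) [IsProper q]

/-- Extension for the base change of a proper scheme over a G-ring. -/
theorem exists_extension_pair (hR₀ : CAlg.IsGRing R₀) {A : Type u} [CommRing A] (I : Ideal A)
    [HenselianRing A I] (j : R₀ →+* A) {χ : R₀ →+* A ⧸ I} (h : (Ideal.Quotient.mk I).comp j = χ)
    (V : FEt.Cat (bc q χ)) : ∃ W : FEt.Cat (bc q j), Restr q (Ideal.Quotient.mk I) h W V := by
  classical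
  letI : Algebra R₀ A := j.toAlgebra
  have hχ : (algebraMap R₀ (A ⧸ I)).comp (RingHom.id R₀) = χ := h
  obtain ⟨L, hL, W₁, eW⟩ := exists_descent_sub q (RingHom.id R₀) hχ V
  obtain ⟨s, hs⟩ := hL
  obtain ⟨r, hr⟩ := (Ideal.Quotient.mk_surjective (I := I)).hasRightInverse
  let R₁ : Subalgebra R₀ A := Algebra.adjoin R₀ ((s.image r : Finset A) : Set A)
  have hmap : R₁.map (Ideal.Quotient.mkₐ R₀ I) = L := by
    rw [← hs]
    show (Algebra.adjoin R₀ _).map _ = _
    rw [AlgHom.map_adjoin]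
    congr 1
    simp only [Finset.coe_image, ← Set.image_comp]
    refine (Set.image_congr fun x _ => ?_).trans (Set.image_id _)
    exact hr x
  let π : R₁ →ₐ[R₀] L := ((Ideal.Quotient.mkₐ R₀ I).comp R₁.val).codRestrict L
    fun x => hmap ▸ Subalgebra.mem_map.2 ⟨x.1, x.2, rfl⟩
  have hπ : Function.Surjective π := fun y => by
    obtain ⟨x, hx, hxy⟩ := Subalgebra.mem_map.1 (hmap.symm ▸ y.2 : y.1 ∈ R₁.map (Ideal.Quotient.mkₐ R₀ I))
    exact ⟨⟨x, hx⟩, Subtype.ext hxy⟩
  let J₁ : Ideal R₁ := RingHom.ker π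
  have hJ₁ : J₁.map R₁.val.toRingHom ≤ I := by
    rw [Ideal.map_le_iff_le_comap]
    intro x hx
    show x.1 ∈ I
    exact Ideal.Quotient.eq_zero_iff_mem.1 (congrArg Subtype.val (RingHom.mem_ker.1 hx))
  haveI : Algebra.FiniteType R₀ R₁ := (Subalgebra.fg_iff_finiteType R₁).1 (Subalgebra.fg_adjoin_finset _)
  have hG₁ : CAlg.IsGRing R₁ := GrothLib.GRingFT.isGRing_of_finiteType hR₀ _
  haveI : IsNoetherianRing R₁ := hG₁.1
  let H := GrothLib.Hensel.Hull R₁ (R₁ ⧸ J₁)
  have hH := GrothLib.Hensel.PairHull.isPairHenselization R₁ J₁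
  let JH : Ideal H := J₁.map (algebraMap R₁ H)
  haveI : HenselianRing H JH := hH.1
  haveI : IsNoetherianRing H := GrothLib.Hensel.IsPairHenselization.isNoetherianRing hH
  have hGH : CAlg.IsGRing H := Groth.Agent.S9276.result R₁ hG₁ J₁ H hH
  obtain ⟨jh, hjh, -⟩ := hH.2 A I R₁.val.toRingHom inferInstance hJ₁
  have hle : JH ≤ I.comap jh := by
    rw [← Ideal.map_le_iff_le_comap, Ideal.map_map, hjh]
    exact hJ₁
  let desc : H ⧸ JH →+* A ⧸ I := Ideal.quotientMap I jh hle
  let φH : R₀ →+* H := (algebraMap R₁ H).comp (algebraMap R₀ R₁)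
  have hjφ : jh.comp φH = j := by
    rw [← RingHom.comp_assoc, hjh]
    rfl
  let g₀ : L →+* R₁ ⧸ J₁ := (Ideal.quotientKerAlgEquivOfSurjective hπ).symm.toAlgHom.toRingHom
  have hg₀ : ∀ x : R₁, g₀ (π x) = Ideal.Quotient.mk J₁ x := fun x => by
    show (Ideal.quotientKerAlgEquivOfSurjective hπ).symm (π x) = _
    rw [AlgEquiv.symm_apply_eq]
    rfl
  let g : L →+* H ⧸ JH := (Ideal.quotientMap JH (algebraMap R₁ H) Ideal.le_comap_map).comp g₀
  have hg : g.comp ((algebraMap R₀ L).comp (RingHom.id R₀)) = (Ideal.Quotient.mk JH).comp φH := by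
    ext a
    show g (algebraMap R₀ L a) = _
    rw [← π.commutes a]
    show Ideal.quotientMap JH (algebraMap R₁ H) Ideal.le_comap_map (g₀ (π _)) = _
    rw [hg₀]
    rfl
  have hd : desc.comp ((Ideal.Quotient.mk JH).comp φH) = χ := by
    rw [← RingHom.comp_assoc, Ideal.quotientMap_comp_mk, RingHom.comp_assoc, hjφ, h]
  have hkey : desc.comp g = algebraMap L (A ⧸ I) := by
    ext y
    obtain ⟨x, rfl⟩ := hπ y
    show desc (Ideal.quotientMap JH (algebraMap R₁ H) Ideal.le_comap_map (g₀ (π x))) = _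
    rw [hg₀]
    show Ideal.Quotient.mk I (jh (algebraMap R₁ H x)) = _
    exact congrArg (Ideal.Quotient.mk I) (RingHom.congr_fun hjh x)
  let V' := (FEt.restrict (bcMap q g hg)).obj W₁
  obtain ⟨WH, eWH⟩ := exists_extension_gring q JH hGH φH rfl V'
  refine ⟨(FEt.restrict (bcMap q jh hjφ)).obj WH, ?_⟩
  have hd' : desc.comp ((Ideal.Quotient.mk JH).comp φH) = χ := hd
  obtain ⟨e1⟩ := restr_congr q (ψ' := algebraMap L (A ⧸ I))
    (h' := by rw [← RingHom.comp_assoc, ← IsScalarTower.algebraMap_eq, hχ])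
    (restr_trans q (restr_self q g hg W₁) (restr_self q desc hd' V')) hkey
  obtain ⟨e2⟩ := eW
  have eV : Restr q desc hd' V' V := ⟨e1.symm ≪≫ e2⟩
  obtain ⟨e3⟩ := restr_congr q (ψ' := (Ideal.Quotient.mk I).comp jh)
    (h' := by rw [RingHom.comp_assoc, hjφ, h]) (restr_trans q eWH eV) (Ideal.quotientMap_comp_mk hle)
  obtain ⟨e4⟩ := restr_trans q (restr_self q jh hjφ WH)
    (restr_self q (Ideal.Quotient.mk I) h ((FEt.restrict (bcMap q jh hjφ)).obj WH))
  exact ⟨e4.symm ≪≫ e3⟩

end Pair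

section General

variable {A : Type u} [CommRing A] (I : Ideal A) [HenselianRing A I] {X : Scheme.{u}}
  (f : X ⟶ Spec (CommRingCat.of A)) [IsProper f]

theorem isAffineHom_pullbackMap {W X Y Z S T : Scheme.{u}} (f₁ : W ⟶ S) (f₂ : X ⟶ S) (g₁ : Y ⟶ T)
    (g₂ : Z ⟶ T) (i₁ : W ⟶ Y) (i₂ : X ⟶ Z) (i₃ : S ⟶ T) (e₁ : f₁ ≫ i₃ = i₁ ≫ g₁) (e₂ : f₂ ≫ i₃ = i₂ ≫ g₂)
    [IsAffineHom i₁] [IsAffineHom i₂] [IsSeparated i₃] :
    IsAffineHom (pullback.map f₁ f₂ g₁ g₂ i₁ i₂ i₃ e₁ e₂) := by
  haveI : IsAffineHom (pullback.map (f₁ ≫ i₃) (f₂ ≫ i₃) g₁ g₂ i₁ i₂ (𝟙 _)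
      ((Category.comp_id _).trans e₁) ((Category.comp_id _).trans e₂)) :=
    MorphismProperty.pullbackMap (P := @IsAffineHom) ‹_› ‹_› e₁ e₂
  have : pullback.map f₁ f₂ g₁ g₂ i₁ i₂ i₃ e₁ e₂ = pullback.mapDesc f₁ f₂ i₃ ≫
      pullback.map (f₁ ≫ i₃) (f₂ ≫ i₃) g₁ g₂ i₁ i₂ (𝟙 _)
        ((Category.comp_id _).trans e₁) ((Category.comp_id _).trans e₂) := by
    apply pullback.hom_ext <;> simp
  rw [this]
  infer_instance

theorem isGRing_of_locallyOfFiniteType {R : CommRingCat.{u}}
    [LocallyOfFiniteType (IsTerminal.from specULiftZIsTerminal (Spec R))] : CAlg.IsGRing R := by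
  let ψ := Spec.preimage (IsTerminal.from specULiftZIsTerminal (Spec R))
  have hψ : ψ.hom.FiniteType := by
    rw [← HasRingHomProperty.Spec_iff (P := @LocallyOfFiniteType), Spec.map_preimage]
    infer_instance
  letI : Algebra (ULift.{u} ℤ) R := ψ.hom.toAlgebra
  haveI : Algebra.FiniteType (ULift.{u} ℤ) R := hψ
  exact GrothLib.GRingFT.isGRing_of_finiteType Groth.Agent.S9309.isGRing_uliftInt R

/-- Every finite etale cover of the closed fibre extends. -/
theorem essSurj_restrict : (FEt.restrict (cl I f)).EssSurj := by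
  refine ⟨fun U₀ => ?_⟩
  obtain ⟨J, _, _, DX, DS, φ, cX, cS, hX, hS, eX, eS, haff, hprop, hw⟩ :=
    Groth.Agent.S2147.result f
  haveI : ∀ (i j : J) (a : i ⟶ j), IsAffineHom (DX.map a) := fun i j a => (haff i j a).1
  haveI : ∀ (i j : J) (a : i ⟶ j), IsAffineHom (DS.map a) := fun i j a => (haff i j a).2
  haveI : ∀ i, IsProper (φ.app i) := fun i => (hprop i).1
  haveI : ∀ i, CompactSpace ↥(DS.obj i) := fun i => (hprop i).2.1
  let sp : Spec (CommRingCat.of (A ⧸ I)) ⟶ Spec (CommRingCat.of A) :=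
    Spec.map (CommRingCat.ofHom (Ideal.Quotient.mk I))
  let z : ∀ i, Spec (CommRingCat.of (A ⧸ I)) ⟶ DS.obj i := fun i => sp ≫ eS.inv ≫ cS.π.app i
  have hz : ∀ {i j : J} (a : i ⟶ j), z i ≫ DS.map a = z j := fun {i j} a => by
    simp only [z, Category.assoc, cS.w]
  let D : J ⥤ Scheme.{u} :=
    { obj := fun i => pullback (φ.app i) (z i)
      map := fun {i j} a => pullback.map (φ.app i) (z i) (φ.app j) (z j) (DX.map a) (𝟙 _) (DS.map a)
        (φ.naturality a).symm ((hz a).trans (Category.id_comp _).symm)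
      map_id := fun i => by apply pullback.hom_ext <;> simp
      map_comp := fun a b => by apply pullback.hom_ext <;> simp }
  have hnat : ∀ i, (eX.inv ≫ cX.π.app i) ≫ φ.app i = f ≫ eS.inv ≫ cS.π.app i := fun i => by
    rw [Category.assoc, hw, Iso.inv_hom_id_assoc]
  let b₀ : ∀ i, pullback f sp ⟶ D.obj i := fun i =>
    pullback.lift (pullback.fst f sp ≫ eX.inv ≫ cX.π.app i) (pullback.snd f sp) (by
      rw [Category.assoc, hnat]
      exact pullback.condition_assoc _)
  let c : Cone D :=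
    { pt := pullback f sp
      π :=
        { app := b₀
          naturality := fun i j a => by
            refine (Category.id_comp _).trans ?_
            apply pullback.hom_ext <;> simp [b₀, D, cX.w] } }
  have ex : ∀ s : Cone D, ∃ m : s.pt ⟶ c.pt, (∀ i, m ≫ c.π.app i = s.π.app i) ∧
      ∀ m' : s.pt ⟶ c.pt, (∀ i, m' ≫ c.π.app i = s.π.app i) → m' = m := by
    intro s
    obtain ⟨i₀⟩ := IsCofiltered.nonempty (C := J)
    let sX : Cone DX := ⟨s.pt, ⟨fun i => s.π.app i ≫ pullback.fst (φ.app i) (z i), fun i j a => by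
      refine (Category.id_comp _).trans ?_
      rw [← s.w a]
      simp [D]⟩⟩
    have hsnd : ∀ i, s.π.app i ≫ pullback.snd (φ.app i) (z i) =
        s.π.app i₀ ≫ pullback.snd (φ.app i₀) (z i₀) := fun i => by
      obtain ⟨k, a, a', -⟩ := IsCofilteredOrEmpty.cone_objs i i₀
      rw [← s.w a, ← s.w a']
      simp [D]
    let m₁ : s.pt ⟶ X := hX.lift sX ≫ eX.hom
    let m₂ : s.pt ⟶ Spec (CommRingCat.of (A ⧸ I)) := s.π.app i₀ ≫ pullback.snd (φ.app i₀) (z i₀)
    have hm : m₁ ≫ f = m₂ ≫ sp := by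
      rw [← cancel_mono eS.inv]
      refine hS.hom_ext fun i => ?_
      simp only [m₁, Category.assoc]
      rw [← hw, hX.fac_assoc]
      show (s.π.app i ≫ pullback.fst (φ.app i) (z i)) ≫ φ.app i = m₂ ≫ z i
      rw [Category.assoc, pullback.condition, ← Category.assoc, hsnd]
    refine ⟨pullback.lift m₁ m₂ hm, fun i => ?_, fun m' hm' => ?_⟩
    · apply pullback.hom_ext
      · simp [c, b₀, m₁, sX]
      · simp [c, b₀, m₂, hsnd i]
    · apply pullback.hom_ext
      · rw [pullback.lift_fst, ← cancel_mono eX.inv]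
        refine hX.hom_ext fun i => ?_
        simp only [m₁, Category.assoc, Iso.hom_inv_id_assoc, hX.fac]
        show _ = s.π.app i ≫ pullback.fst (φ.app i) (z i)
        rw [← hm' i]
        simp [c, b₀]
      · rw [pullback.lift_snd]
        show _ = s.π.app i₀ ≫ pullback.snd (φ.app i₀) (z i₀)
        rw [← hm' i₀]
        simp [c, b₀]
  let hc : IsLimit c :=
    { lift := fun s => (ex s).choose
      fac := fun s => (ex s).choose_spec.1
      uniq := fun s => (ex s).choose_spec.2 }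
  haveI : ∀ (i j : J) (a : i ⟶ j), IsAffineHom (D.map a) := fun i j a =>
    isAffineHom_pullbackMap (φ.app i) (z i) (φ.app j) (z j) (DX.map a) (𝟙 _) (DS.map a)
      (φ.naturality a).symm ((hz a).trans (Category.id_comp _).symm)
  haveI : ∀ i, CompactSpace ↥(D.obj i) := fun i =>
    QuasiCompact.compactSpace_of_compactSpace (pullback.snd (φ.app i) (z i))
  haveI : ∀ i, QuasiSeparatedSpace ↥(D.obj i) := fun i =>
    quasiSeparatedSpace_of_quasiSeparated (pullback.snd (φ.app i) (z i))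
  obtain ⟨i, Vi, ⟨eVi⟩⟩ := GrothLib.FEtLimit21.exists_cover D c hc U₀
  haveI : IsAffine cS.pt := IsAffine.of_isIso eS.hom
  haveI : ∀ i, QuasiSeparatedSpace ↥(DS.obj i) := fun i => by
    haveI := (hprop i).2.2
    haveI : IsNoetherianRing (CommRingCat.of (ULift.{u} ℤ)) := Groth.Agent.S9309.isGRing_uliftInt.1
    haveI : IsLocallyNoetherian (DS.obj i) :=
      LocallyOfFiniteType.isLocallyNoetherian (IsTerminal.from specULiftZIsTerminal (DS.obj i))
    infer_instance
  obtain ⟨i₁, hi₁⟩ := Scheme.exists_isAffine_of_isLimit DS cS hS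
  obtain ⟨k, a, a', -⟩ := IsCofilteredOrEmpty.cone_objs i i₁
  haveI := hi₁
  haveI : IsAffine (DS.obj k) := isAffine_of_isAffineHom (DS.map a')
  haveI := (hprop k).2.2
  -- the model over an affine scheme of finite type over the integers
  let R₀ := Γ(DS.obj k, ⊤)
  let q : DX.obj k ⟶ Spec (CommRingCat.of R₀) := φ.app k ≫ (DS.obj k).isoSpec.hom
  haveI : IsProper q := inferInstanceAs (IsProper (φ.app k ≫ (DS.obj k).isoSpec.hom))
  haveI : LocallyOfFiniteType (IsTerminal.from specULiftZIsTerminal (Spec R₀)) := by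
    rw [show IsTerminal.from specULiftZIsTerminal (Spec R₀) =
      (DS.obj k).isoSpec.inv ≫ IsTerminal.from specULiftZIsTerminal (DS.obj k) from
        specULiftZIsTerminal.hom_ext _ _]
    infer_instance
  let jc : R₀ ⟶ CommRingCat.of A := Spec.preimage (eS.inv ≫ cS.π.app k ≫ (DS.obj k).isoSpec.hom)
  have hj : Spec.map (CommRingCat.ofHom jc.hom) = eS.inv ≫ cS.π.app k ≫ (DS.obj k).isoSpec.hom :=
    Spec.map_preimage _
  let j : (R₀ : Type u) →+* A := jc.hom
  have hjz : Spec.map (CommRingCat.ofHom ((Ideal.Quotient.mk I).comp j)) = z k ≫ (DS.obj k).isoSpec.hom := by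
    rw [CommRingCat.ofHom_comp, Spec.map_comp, hj]
    simp [z, sp]
  let μ : bc q ((Ideal.Quotient.mk I).comp j) ⟶ D.obj k :=
    pullback.lift (pullback.fst _ _) (pullback.snd _ _) (by
      rw [← cancel_mono (DS.obj k).isoSpec.hom, Category.assoc, Category.assoc, ← hjz]
      exact pullback.condition)
  let Vk : FEt.Cat (D.obj k) := (FEt.restrict (D.map a)).obj Vi
  obtain ⟨W, ⟨eW⟩⟩ := exists_extension_pair q (isGRing_of_locallyOfFiniteType (R := R₀)) I j rfl
    ((FEt.restrict μ).obj Vk)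
  let bX : X ⟶ bc q j := pullback.lift (eX.inv ≫ cX.π.app k) f (by
    rw [hj]
    simp only [q, ← Category.assoc]
    congr 1
    exact (hnat k).trans (Category.assoc _ _ _).symm)
  let bY : pullback f sp ⟶ bc q ((Ideal.Quotient.mk I).comp j) :=
    pullback.lift (pullback.fst f sp ≫ eX.inv ≫ cX.π.app k) (pullback.snd f sp) (by
      rw [hjz]
      simp only [q, Category.assoc]
      rw [reassoc_of% (hnat k), pullback.condition_assoc]
      simp [z])
  have h1 : cl I f ≫ bX = bY ≫ bcMap q (Ideal.Quotient.mk I) rfl := by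
    apply pullback.hom_ext
    · simp [bX, bY, cl, sp]
    · simp [bX, bY]
      exact pullback.condition
  have h2 : bY ≫ μ ≫ D.map a = c.π.app i := by
    apply pullback.hom_ext <;> simp [bY, μ, D, c, b₀, cX.w]
  refine ⟨(FEt.restrict bX).obj W, ⟨
    ((MorphismProperty.Over.pullbackComp (P := FEt.prop) (Q := ⊤) (cl I f) bX).app W).symm ≪≫
    (MorphismProperty.Over.pullbackCongr (P := FEt.prop) (Q := ⊤) h1).app W ≪≫
    (MorphismProperty.Over.pullbackComp (P := FEt.prop) (Q := ⊤) bY _).app W ≪≫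
    (FEt.restrict bY).mapIso (eW ≪≫
      ((MorphismProperty.Over.pullbackComp (P := FEt.prop) (Q := ⊤) μ (D.map a)).app Vi).symm) ≪≫
    ((MorphismProperty.Over.pullbackComp (P := FEt.prop) (Q := ⊤) bY (μ ≫ D.map a)).app Vi).symm ≪≫
    (MorphismProperty.Over.pullbackCongr (P := FEt.prop) (Q := ⊤) h2).app Vi ≪≫ eVi⟩⟩

/-- Proper base change for finite etale covers over a henselian pair. -/
theorem isEquivalence_restrict : (FEt.restrict (cl I f)).IsEquivalence := by
  obtain ⟨_, _⟩ := fullyFaithful_restrict I f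
  haveI := essSurj_restrict I f
  exact {}

end General

end Groth.Agent.ProperBC21
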