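import Groth.Prelude.Def_FEt
import Mathlib.AlgebraicGeometry.Pullbacks
import Mathlib.AlgebraicGeometry.Morphisms.Proper

/-!
# Base changes of a scheme over an affine base along ring maps, and restriction of covers between them
-/

set_option autoImplicit false
set_option backward.isDefEq.respectTransparency false

universe u

open CategoryTheory CategoryTheory.Limits AlgebraicGeometry

noncomputable section

namespace Groth.Agent.ProperBC21

variable {R₀ : Type u} [CommRing R₀] {Q : Scheme.{u}} (q : Q ⟶ Spec (CommRingCat.of R₀))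
variable {S T U : Type u} [CommRing S] [CommRing T] [CommRing U]

/-- The base change along a ring map. -/
abbrev bc (φ : R₀ →+* S) : Scheme.{u} := pullback q (Spec.map (CommRingCat.ofHom φ))

/-- The map between base changes. -/
def bcMap {φ : R₀ →+* S} {χ : R₀ →+* T} (ψ : S →+* T) (h : ψ.comp φ = χ) : bc q χ ⟶ bc q φ :=
  pullback.lift (pullback.fst _ _) (pullback.snd _ _ ≫ Spec.map (CommRingCat.ofHom ψ)) (by
    rw [Category.assoc, ← Spec.map_comp, ← CommRingCat.ofHom_comp, h, pullback.condition])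

@[reassoc (attr := simp)]
theorem bcMap_fst {φ : R₀ →+* S} {χ : R₀ →+* T} (ψ : S →+* T) (h : ψ.comp φ = χ) :
    bcMap q ψ h ≫ pullback.fst _ _ = pullback.fst _ _ :=
  pullback.lift_fst _ _ _

@[reassoc (attr := simp)]
theorem bcMap_snd {φ : R₀ →+* S} {χ : R₀ →+* T} (ψ : S →+* T) (h : ψ.comp φ = χ) :
    bcMap q ψ h ≫ pullback.snd _ _ = pullback.snd _ _ ≫ Spec.map (CommRingCat.ofHom ψ) :=
  pullback.lift_snd _ _ _

theorem bcMap_comp {φ : R₀ →+* S} {χ : R₀ →+* T} {ω : R₀ →+* U} (ψ : S →+* T) (h : ψ.comp φ = χ)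
    (ψ' : T →+* U) (h' : ψ'.comp χ = ω) :
    bcMap q ψ' h' ≫ bcMap q ψ h = bcMap q (ψ'.comp ψ) (by rw [RingHom.comp_assoc, h, h']) := by
  apply pullback.hom_ext <;> simp [← Spec.map_comp]

/-- `W` is the restriction of `V`. -/
def Restr {φ : R₀ →+* S} {χ : R₀ →+* T} (ψ : S →+* T) (h : ψ.comp φ = χ)
    (V : FEt.Cat (bc q φ)) (W : FEt.Cat (bc q χ)) : Prop :=
  Nonempty ((FEt.restrict (bcMap q ψ h)).obj V ≅ W)

theorem restr_self {φ : R₀ →+* S} {χ : R₀ →+* T} (ψ : S →+* T) (h : ψ.comp φ = χ) (V : FEt.Cat (bc q φ)) :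
    Restr q ψ h V ((FEt.restrict (bcMap q ψ h)).obj V) :=
  ⟨Iso.refl _⟩

theorem restr_trans {φ : R₀ →+* S} {χ : R₀ →+* T} {ω : R₀ →+* U} {ψ : S →+* T} {h : ψ.comp φ = χ}
    {ψ' : T →+* U} {h' : ψ'.comp χ = ω} {V : FEt.Cat (bc q φ)} {W : FEt.Cat (bc q χ)} {Z : FEt.Cat (bc q ω)}
    (e : Restr q ψ h V W) (e' : Restr q ψ' h' W Z) :
    Restr q (ψ'.comp ψ) (show (ψ'.comp ψ).comp φ = ω by rw [RingHom.comp_assoc, h, h']) V Z := by
  obtain ⟨e⟩ := e
  obtain ⟨e'⟩ := e'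
  exact ⟨(MorphismProperty.Over.pullbackCongr (P := FEt.prop) (Q := ⊤) (bcMap_comp q ψ h ψ' h').symm).app V ≪≫
    (MorphismProperty.Over.pullbackComp (P := FEt.prop) (Q := ⊤) (bcMap q ψ' h') (bcMap q ψ h)).app V ≪≫
    (FEt.restrict (bcMap q ψ' h')).mapIso e ≪≫ e'⟩

theorem restr_congr {φ : R₀ →+* S} {χ : R₀ →+* T} {ψ ψ' : S →+* T} {h : ψ.comp φ = χ} {h' : ψ'.comp φ = χ}
    {V : FEt.Cat (bc q φ)} {W : FEt.Cat (bc q χ)} (e : Restr q ψ h V W) (he : ψ = ψ') : Restr q ψ' h' V W := by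
  subst he
  exact e

/-- Cancel an identity restriction. -/
theorem restr_id {φ : R₀ →+* S} {V W : FEt.Cat (bc q φ)} {h : (RingHom.id S).comp φ = φ}
    (e : Restr q (RingHom.id S) h V W) : Nonempty (V ≅ W) := by
  obtain ⟨e⟩ := e
  have h1 : bcMap q (RingHom.id S) h = 𝟙 _ := by
    apply pullback.hom_ext <;> simp
  haveI : IsIso (pullback.fst V.hom (𝟙 (bc q φ))) := inferInstance
  let ι : (FEt.restrict (𝟙 (bc q φ))).obj V ≅ V :=
    MorphismProperty.Over.isoMk (asIso (pullback.fst V.hom (𝟙 (bc q φ))))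
      (pullback.condition.trans (Category.comp_id _))
  exact ⟨ι.symm ≪≫
    (MorphismProperty.Over.pullbackCongr (P := FEt.prop) (Q := ⊤) h1.symm).app V ≪≫ e⟩

end Groth.Agent.ProperBC21
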